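/-
Words and vectors for the element of order three in the centraliser of the sign change on an octad.
-/
import Cfsg.Agent.Lib.Leech.Paths

set_option autoImplicit false

namespace CfsgSuzLeech

open CfsgLeech

/-- The word of the element of order three. -/
def wA : List Step :=
  [some (984818244535754528103549039458486304, 0),
   none,
   some (984818244535754528103549039458486304, 5390753),
   none,
   some (70365596815236416272784276646386752, 2890176),
   none,
   some (984818244535754528103549039458486304, 2890176)]

/-- The word of a permutation commuting with it, cycling three octads. -/
def wF : List Step := [some (690778869014429257916405087577846934, 0)]

/-- The code of that permutation. -/
def cF : ℕ := 415858346681320009827977173130257908

/-- Six elements of the two-group centralised by the element of order three, in three pairs. -/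
def qCodes : List (ℕ × ℕ) :=
  [(984818244535754528103549039458486304, 1351424),
   (968708902336673183175954409307867168, 628112),
   (984818244535754528103549039458486304, 2890176),
   (983548720921252936276249910206105632, 3216208),
   (961365507626256404119956257276790816, 3421328),
   (972512676110088067912772961567868960, 1161408)]

/-- Generators of the lattice, packed. -/
def genV : List ℕ :=
  [562777982086355510705240892457403953,
   771726059836291491265838320554885650,
   688649386774721064098293365013496400,
   771728595057776114097536562769709584,
   688730518963891231119889363502711312,
   769132523460504682207687969560085008,
   769213576344221360433975882144039440,
   771807268623155063675189084830581264,
   686055776197487512342722442766598672,
   686136905760946428506205204045644304,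
   688733051791631745737653564975104528,
   769213573793463367431952751959491088,
   771807186998899287610448918925034000,
   519899659641680805127698729222554132,
   519899659641680805127698729222554256,
   519899659641680805127698729222558224,
   519899659641680805127698729222685200,
   519899659641680805127698729226748432,
   519899659641680805127698729356771856,
   519899659641680805127698733517521424,
   519899659641680805127698866661507600,
   519899659641680805127703127269065232,
   519899659641680805127839466710909456,
   519899659641680805132202328849924624,
   519899659641680805271813917298410000,
   519899659641680809739384747649942032,
   519899659641680952701651318898967056,
   519899659641685527494181598867767824,
   519899659641831920855150557869392400,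
   519899659646516508406157245921378832,
   519899659796423310038371263584944656,
   519899664593440962269219828819051024,
   519899818098005833656373916310454800,
   519904730244081718045304716035375632,
   520061918918510018491090307232842256,
   525091956500215632756229225551774224,
   686053159114795289240674611757597200,
   1018360158061024257466626376827683344]

end CfsgSuzLeech
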