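/-
Equality of words on the generators of the lattice, checked by running them.
-/
import Cfsg.Agent.Lib.SuzLeech.Data
import Cfsg.Agent.Lib.CosetEnum.Sound
import Cfsg.Agent.Lib.Leech.OctInvQ

set_option autoImplicit false

namespace CfsgSuzLeech

open Cfsg CfsgLeech CfsgGolay CfsgLib.CosetEnum

attribute [local irreducible] codeL octadL dodecadL slpCodes

/-- The new field at a position. -/
noncomputable def newField : Step → ℕ → ℕ → ℕ
  | none, c, k => let h := Nat.div (fieldSum c (blockPts.getD k [])) 2
    cond ((147496 : ℕ).testBit k) (h - papp c k) (papp c k + 32 - h)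
  | some (g, m), c, k => cond (m.testBit k) (32 - papp c (papp g k)) (papp c (papp g k))

/-- The vector after a step. -/
noncomputable def stepN (s : Step) (c : ℕ) : ℕ :=
  (List.range 24).foldr (fun k r => Nat.add (Nat.shiftLeft (newField s c k) (5 * k)) r) 0

/-- Run a word, checking every step, and test the end. -/
noncomputable def runChk : List Step → ℕ → (ℕ → Bool) → Bool
  | [], c, k => k c
  | s :: w, c, k => force (stepN s c) fun d => stepChk s c d && runChk w d k

section

attribute [local irreducible] stepN stepChk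

set_option maxRecDepth 8000

theorem runChk_spec : ∀ {w : List Step} {c : ℕ} {k : ℕ → Bool}, runChk w c k = true →
    ∃ d, runW w (vecN c) = vecN d ∧ k d = true
  | [], c, k, h => ⟨c, rfl, h⟩
  | s :: w, c, k, h => by
    rw [runChk, force_eq, Bool.and_eq_true] at h
    obtain ⟨d, hd, hk⟩ := runChk_spec h.2
    exact ⟨d, by rw [runW, stepChk_eq h.1, hd], hk⟩

end

/-- The two words agree on the generators of the lattice. -/
noncomputable def eqChk (w w' : List Step) : Bool :=
  genV.all fun c => runChk w c fun d => runChk w' c fun e => Nat.beq d e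

/-- The two words differ on some generator. -/
noncomputable def neChk (w w' : List Step) : Bool :=
  genV.any fun c => inLatB (vecN c) && runChk w c fun d => runChk w' c fun e =>
    !Nat.beq d e && (Nat.blt d (2 ^ 120) && Nat.blt e (2 ^ 120))

theorem genV_checks : vecN (genV.getD 0 0) = od (-1) ∅ {none} ∧
    (∀ k : Fin 12, vecN (genV.getD (1 + k) 0) = fun a => 2 * chi (toSet (sysBasis.getD k 0)) a) ∧
    (∀ k : Fin 24, vecN (genV.getD (13 + k) 0) = fun a => 4 * chi {pt k} a - 4 * chi {none} a) ∧
    vecN (genV.getD 37 0) = fun a => 8 * chi {none} a := by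
  decide +kernel

theorem genV_length : genV.length = 38 := by decide +kernel

/-- An element realising a word. -/
def Word (g : ↥Co0) (w : List Step) : Prop :=
  ∀ v : ↥leechLattice, ((g • v : ↥leechLattice) : GolayPt → ℤ) = runW w v

theorem runW_append : ∀ (w w' : List Step) (x : GolayPt → ℤ), runW (w ++ w') x = runW w' (runW w x)
  | [], w', x => rfl
  | s :: w, w', x => by rw [List.cons_append, runW, runW, runW_append w w']

theorem Word.mul {g h : ↥Co0} {w w' : List Step} (hg : Word g w) (hh : Word h w') : Word (g * h) (w' ++ w) :=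
  fun v => by rw [mul_smul, hg, runW_append, hh]

theorem Word.one : Word 1 [] := fun v => by rw [one_smul]; rfl

theorem eqChk_sound {g h : ↥Co0} {w w' : List Step} (hg : Word g w) (hh : Word h w') (he : eqChk w w' = true) :
    g = h := by
  refine aut_ext fun v => ?_
  let P : AddSubgroup (GolayPt → ℤ) :=
    { carrier := {x | ∃ hx : x ∈ leechLattice, g • (⟨x, hx⟩ : ↥leechLattice) = h • ⟨x, hx⟩}
      zero_mem' := ⟨zero_mem _, (map_zero (autHom g)).trans (map_zero (autHom h)).symm⟩
      add_mem' := fun {a b} ⟨ha, ea⟩ ⟨hb, eb⟩ => ⟨add_mem ha hb, by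
        rw [show (⟨a + b, add_mem ha hb⟩ : ↥leechLattice) = ⟨a, ha⟩ + ⟨b, hb⟩ from rfl, aut_add, aut_add, ea, eb]⟩
      neg_mem' := fun {a} ⟨ha, ea⟩ => ⟨neg_mem ha, by
        rw [show (⟨-a, neg_mem ha⟩ : ↥leechLattice) = -⟨a, ha⟩ from rfl, aut_neg, aut_neg, ea]⟩ }
  have key : ∀ k < 38, ∀ x, vecN (genV.getD k 0) = x → x ∈ leechLattice → x ∈ P := by
    rintro k hk x rfl hx
    refine ⟨hx, Subtype.ext ?_⟩
    have hc := (List.all_eq_true.mp he) (genV.getD k 0) (by
      rw [List.getD_eq_getElem _ _ (by rw [genV_length]; exact hk)]; exact List.getElem_mem _)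
    obtain ⟨d, hd, hd'⟩ := runChk_spec hc
    obtain ⟨e, he', hee⟩ := runChk_spec hd'
    rw [hg, hh, show runW w (vecN (genV.getD k 0)) = _ from hd, show runW w' (vecN (genV.getD k 0)) = _ from he',
      Nat.eq_of_beq_eq_true hee]
  obtain ⟨h1, h2, h3, h4⟩ := genV_checks
  have hv : ((v : ↥leechLattice) : GolayPt → ℤ) ∈ P := by
    refine leech_induction P (key 0 (by norm_num) _ h1 ?_) (fun e hec => ?_) (fun i => ?_)
      (key 37 (by norm_num) _ h4 ?_) v.2
    · exact inLatB_sound (by decide +kernel)
    · obtain ⟨k, hk, rfl⟩ := List.getElem_of_mem hec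
      have hk' : k < 12 := by simpa [sysBasis] using hk
      have := h2 ⟨k, hk'⟩
      simp only at this
      rw [List.getD_eq_getElem _ _ hk] at this
      refine key (1 + k) (by omega) _ this ?_
      rw [← this]
      exact inLatB_sound ((show ∀ j : Fin 38, inLatB (vecN (genV.getD j 0)) = true by decide +kernel) ⟨1 + k, by omega⟩)
    · have := h3 ⟨idx i, idx_lt i⟩
      simp only [pt_idx] at this
      refine key (13 + idx i) (by have := idx_lt i; omega) _ this ?_
      rw [← this]
      exact inLatB_sound ((show ∀ j : Fin 38, inLatB (vecN (genV.getD j 0)) = true by decide +kernel)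
        ⟨13 + idx i, by have := idx_lt i; omega⟩)
    · exact inLatB_sound (by decide +kernel)
  obtain ⟨hx, e⟩ := hv
  exact congrArg Subtype.val e

theorem neChk_sound {g h : ↥Co0} {w w' : List Step} (hg : Word g w) (hh : Word h w') (he : neChk w w' = true) :
    g ≠ h := by
  rintro rfl
  obtain ⟨c, -, hc⟩ := List.any_eq_true.mp he
  rw [Bool.and_eq_true] at hc
  obtain ⟨d, hd, hd'⟩ := runChk_spec hc.2
  obtain ⟨e, he', hee⟩ := runChk_spec hd'
  simp only [Bool.and_eq_true, Nat.blt_eq, Bool.not_eq_true'] at hee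
  have h2 := (hg ⟨vecN c, inLatB_sound hc.1⟩).symm.trans (hh ⟨vecN c, inLatB_sound hc.1⟩)
  have h3 : vecN d = vecN e := hd.symm.trans (h2.trans he')
  rw [vecN_inj hee.2.1 hee.2.2 h3, Nat.beq_refl] at hee
  exact absurd hee.1 (by simp)

end CfsgSuzLeech
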