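/-
The checks on the words.
-/
import Cfsg.Agent.Lib.SuzLeech.Run

set_option autoImplicit false
set_option maxRecDepth 100000

namespace CfsgSuzLeech

open Cfsg CfsgLeech CfsgGolay CfsgLeech.OctInv

attribute [local irreducible] codeL octadL dodecadL slpCodes

/-- The sign change on the octad, as a word. -/
def wE : List Step := [some (pid, 8536111)]

/-- The sign change on all points, as a word. -/
def wN : List Step := [some (pid, 16777215)]

/-- The word of one of the six elements. -/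
def wQ (i : ℕ) : List Step := [some (qCodes.getD i (0, 0))]

theorem wA_ok : wordOK wA = true ∧ wordOK wF = true ∧ wordOK wE = true ∧ wordOK wN = true := by
  refine ⟨?_, ?_, ?_, ?_⟩ <;> decide +kernel

theorem wA_cube : eqChk (wA ++ wA ++ wA) [] = true := by decide +kernel

theorem wA_ne : neChk wA [] = true := by decide +kernel

theorem wA_eps : eqChk (wA ++ wE) (wE ++ wA) = true := by decide +kernel

theorem wA_cyc : eqChk (wA ++ wF) (wF ++ wA) = true := by decide +kernel

theorem wQ_comm : ∀ i : Fin 6, eqChk (wA ++ wQ i) (wQ i ++ wA) = true := by decide +kernel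

theorem wQ_pair : ∀ i j : Fin 6, i.val / 2 = j.val / 2 → i ≠ j →
    neChk (wQ i ++ wQ j) (wQ j ++ wQ i) = true ∧ neChk (wQ i ++ wQ j) (wQ j ++ wQ i ++ wN) = true := by
  decide +kernel

theorem wQ_orth : ∀ i j : Fin 6, i.val / 2 ≠ j.val / 2 ∨ i = j →
    (eqChk (wQ i ++ wQ j) (wQ j ++ wQ i) || eqChk (wQ i ++ wQ j) (wQ j ++ wQ i ++ wN)) = true := by
  decide +kernel

theorem qCodes_checks : ∀ i : Fin 6, permOK (qCodes.getD i (0, 0)).1 = true ∧
    gensKept (qCodes.getD i (0, 0)).1 = true ∧ (qCodes.getD i (0, 0)).2 ∈ wordsK ∧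
    wordOK (wQ i) = true ∧ ∀ p : GolayPt, p ∈ O0 → papp (qCodes.getD i (0, 0)).1 (idx p) = idx p := by
  decide +kernel

theorem cF_checks : permOK cF = true ∧ gensKept cF = true ∧
    (∀ k : Fin 24, papp ((fun s : Step => (s.getD (0, 0)).1) (wF.getD 0 none)) (papp cF k) = k) ∧
    (∀ p : GolayPt, p ∈ toSet 3704512 ↔ ∃ q : GolayPt, q ∈ O0 ∧ papp cF (idx q) = idx p) ∧
    toSet 3704512 ≠ O0 ∧ toSet 3704512 ≠ O0ᶜ ∧ 3704512 ∈ wordsK := by
  decide +kernel

end CfsgSuzLeech
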