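/-
An element of order three centralising the sign change on an octad, six elements of the two-group it
centralises, and a permutation commuting with it that moves the sign change into the two-group.
-/
import Cfsg.Agent.Lib.SuzLeech.Checks

set_option autoImplicit false
set_option maxRecDepth 8000

namespace CfsgSuzLeech

open Cfsg CfsgLeech CfsgGolay CfsgLeech.OctInv
open scoped Pointwise

attribute [local irreducible] codeL octadL dodecadL slpCodes

/-- The two-group in the whole group. -/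
noncomputable def Qm : Subgroup Cfsg.Spor.Co1 := Q1.map C1.subtype

theorem mem_Qm {y : ↥C1} (h : y ∈ Q1) : (y : Cfsg.Spor.Co1) ∈ Qm := ⟨y, h, rfl⟩

theorem word_mono {code m : ℕ} {σ : Equiv.Perm GolayPt} (hr : Repr code σ) (hσ : σ⁻¹ ∈ M24) (hc : toSet m ∈ CW) :
    Word (monoAut σ⁻¹ hσ (toSet m) hc) [some (code, m)] := by
  intro v
  rw [monoAut_apply]
  show _ = stepF (some (code, m)) (v : GolayPt → ℤ)
  funext i
  have hi : σ i = pt (papp code (idx i)) := by rw [← hr i, pt_idx]
  simp only [signedPerm, stepF, mem_toSet, show (σ⁻¹ : Equiv.Perm GolayPt).symm i = σ i from rfl, hi]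

theorem word_sgn {m : ℕ} (hc : toSet m ∈ CW) : Word (sgn (toSet m) hc) [some (pid, m)] := by
  intro v
  rw [sgn, monoAut_apply]
  show _ = stepF (some (pid, m)) (v : GolayPt → ℤ)
  funext i
  have hi : pt (papp pid (idx i)) = i := by rw [← repr_pid i, pt_idx]; rfl
  simp only [signedPerm, stepF, mem_toSet, show (1 : Equiv.Perm GolayPt).symm i = i from rfl, hi]

theorem word_eps : Word eps wE := word_sgn O0_CW

theorem word_negAut : Word negAut wN := by
  have h : toSet 16777215 = (Finset.univ : Finset GolayPt) := by decide +kernel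
  rw [neg_sgn, ← sgn_congr h (hc := h ▸ CW_univ)]
  exact word_sgn _

/-- The element of order three. -/
noncomputable def aL : ↥Co0 := (exists_word_aut wA_ok.1).choose

theorem word_aL : Word aL wA := (exists_word_aut wA_ok.1).choose_spec

theorem aL_cube : aL * aL * aL = 1 :=
  eqChk_sound ((word_aL.mul word_aL).mul word_aL) Word.one (by
    rw [← List.append_assoc]; exact wA_cube)

theorem aL_ne : aL ≠ 1 := neChk_sound word_aL Word.one wA_ne

theorem aL_mem : aL ∈ C0 :=
  Subgroup.mem_centralizer_singleton_iff.mpr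
    (eqChk_sound (word_eps.mul word_aL) (word_aL.mul word_eps) wA_eps).symm

theorem exists_six : ∃ x : Fin 6 → Cfsg.Spor.Co1, (∀ i, x i ∈ Qm ∧ x i * prj aL = prj aL * x i) ∧
    (∀ i j : Fin 6, i.val / 2 = j.val / 2 → i ≠ j → x i * x j ≠ x j * x i) ∧
    (∀ i j : Fin 6, i.val / 2 ≠ j.val / 2 ∨ i = j → x i * x j = x j * x i) := by
  have h : ∀ i : Fin 6, ∃ g : ↥Co0, Word g (wQ i) ∧ prj g ∈ Qm := by
    intro i
    obtain ⟨hp, hk, hm, hw, hfix⟩ := qCodes_checks i
    obtain ⟨σ, hσ⟩ := exists_repr_of_permOK hp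
    have hM := mem_M24_of_gensKept hσ hk
    have hF : σ ∈ fixOct O0 := by
      refine ⟨hM, (mem_fixingSubgroup_iff _).mpr fun p hp => ?_⟩
      exact idx_injective ((hσ p).trans (hfix p (Finset.mem_coe.mp hp)))
    have hinv : σ⁻¹ = σ := inv_eq_of_mul_eq_one_left (fix_invol hF)
    obtain ⟨y, g, hy, hg⟩ := elem_ker hF (SK_mask hm)
    refine ⟨g, ?_, (hy ▸ mem_Qm y.2 : ((rho g : ↥C1) : Cfsg.Spor.Co1) ∈ Qm)⟩
    rw [hg]
    have hwd := word_mono hσ (inv_mem hM) (SK_mask hm).1
    intro v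
    rw [← show wQ i = [some (qCodes.getD i (0, 0))] from rfl] at hwd
    have := hwd v
    rw [monoAut_apply] at this ⊢
    rwa [hinv] at this
  choose g hg hgQ using h
  refine ⟨fun i => prj (g i), fun i => ⟨hgQ i, ?_⟩, fun i j hij hne => ?_, fun i j hij => ?_⟩
  · rw [← map_mul, ← map_mul, eqChk_sound ((hg i).mul word_aL) (word_aL.mul (hg i)) (wQ_comm i)]
  · intro e
    rw [← map_mul, ← map_mul] at e
    obtain ⟨h1, h2⟩ := wQ_pair j i hij.symm (Ne.symm hne)
    rcases prj_eq.mp e.symm with r | r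
    · exact neChk_sound ((hg i).mul (hg j)) ((hg j).mul (hg i)) h1 r
    · refine neChk_sound ((hg i).mul (hg j)) (word_negAut.mul ((hg j).mul (hg i))) h2 ?_
      rw [r, Subgroup.mem_center_iff.mp negAut_central]
  · rw [← map_mul, ← map_mul]
    refine (prj_eq.mpr ?_).symm
    have hc := wQ_orth j i (hij.imp Ne.symm Eq.symm)
    rw [Bool.or_eq_true] at hc
    refine hc.imp (fun h => eqChk_sound ((hg i).mul (hg j)) ((hg j).mul (hg i)) h) fun h => ?_
    rw [Subgroup.mem_center_iff.mp negAut_central]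
    exact eqChk_sound ((hg i).mul (hg j)) (word_negAut.mul ((hg j).mul (hg i))) h

theorem exists_mover : ∃ f : Cfsg.Spor.Co1, f * prj aL = prj aL * f ∧
    f * z1 * f⁻¹ ∈ Qm ∧ f * z1 * f⁻¹ ≠ z1 := by
  obtain ⟨hp, hk, hinv, himg, hne1, hne2, hW⟩ := cF_checks
  obtain ⟨σ, hσ⟩ := exists_repr_of_permOK hp
  have hM := mem_M24_of_gensKept hσ hk
  set code := ((fun s : Step => (s.getD (0, 0)).1) (wF.getD 0 none))
  have hr : Repr code σ⁻¹ := fun p => by
    have hq : σ (σ⁻¹ p) = p := σ.apply_symm_apply p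
    have h1 := hinv ⟨idx (σ⁻¹ p), idx_lt _⟩
    simp only [← hσ (σ⁻¹ p), hq] at h1
    exact h1.symm
  have hwd : Word (monoAut σ hM ∅ CW_empty) wF := by
    have h0 : toSet 0 = (∅ : Finset GolayPt) := toSet_zero
    intro v
    have := word_mono (m := 0) hr ((inv_inv σ).symm ▸ hM) (h0 ▸ CW_empty) v
    rw [monoAut_apply] at this ⊢
    rw [show wF = [some (code, 0)] from rfl]
    rwa [inv_inv, h0] at this
  have hO : σ • O0 = toSet 3704512 := by
    ext p
    rw [himg p, Finset.mem_smul_finset]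
    exact exists_congr fun q => and_congr_right fun _ => by
      rw [Equiv.Perm.smul_def, ← hσ q, idx_injective.eq_iff]
  refine ⟨prj (monoAut σ hM ∅ CW_empty), ?_, ?_, ?_⟩
  · rw [← map_mul, ← map_mul, eqChk_sound (hwd.mul word_aL) (word_aL.mul hwd) wA_cyc]
  all_goals
    obtain ⟨y, h, hy, hh⟩ := elem_ker (one_mem (fixOct O0)) (SK_mask hW)
    have hc : prj (monoAut σ hM ∅ CW_empty) * z1 * (prj (monoAut σ hM ∅ CW_empty))⁻¹ = prj (h : ↥Co0) := by
      rw [← map_inv, ← map_mul, ← map_mul, hh, eps, mono_conj_sgn hM CW_empty O0_CW]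
      exact congrArg prj (sgn_congr hO)
    rw [hc]
  · exact (hy ▸ mem_Qm y.2 : ((rho h : ↥C1) : Cfsg.Spor.Co1) ∈ Qm)
  · rw [hh]
    intro e
    rcases prj_eq.mp e with r | r
    · exact hne1 (sgn_inj r).symm
    · rw [show monoAut 1 _ (toSet 3704512) _ = sgn (toSet 3704512) (SK_mask hW).1 from rfl, sgn_mul_neg] at r
      refine hne2 ?_
      have h5 := sgn_inj r
      exact (compl_compl (toSet 3704512)).symm.trans (congrArg compl h5.symm)

end CfsgSuzLeech
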