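/-
The quadratic space of dimension eight and plus type over two elements: reflections and the index two subgroup.
-/
import Cfsg.Agent.Lib.SuzType.Setup

set_option autoImplicit false

namespace CfsgSuzLeech

open QuadraticMap CfsgLib.WittExtension CfsgLib.SpinorNorm CfsgLargeExtra.Types
open CfsgLib.SuzType (F2 F2_cases)

/-- Eight coordinates. -/
abbrev W := Fin 4 ⊕ Fin 4 → F2

/-- The form of plus type. -/
def qw : QuadraticForm F2 W :=
  QuadraticMap.ofPolar (Cfsg.quadFormPlus 4 F2)
    (fun a x => by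
      rcases F2_cases a with rfl | rfl
      · simp [Cfsg.quadFormPlus]
      · simp)
    (fun x x' y => by simp only [CfsgLib.FiniteForms.polar_plus, add_dotProduct])
    (fun a x y => by simp only [CfsgLib.FiniteForms.polar_plus, smul_dotProduct, smul_eq_mul])

/-- Coordinates for the minus type in eight dimensions. -/
abbrev Wm := (Fin 3 ⊕ Fin 3) ⊕ Fin 2 → F2

/-- The form of minus type. -/
def qn : QuadraticForm F2 Wm :=
  QuadraticMap.ofPolar (Cfsg.quadFormMinus 3 F2 1 1)
    (fun a x => by
      rcases F2_cases a with rfl | rfl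
      · simp [Cfsg.quadFormMinus]
      · simp)
    (fun x x' y => by simp only [CfsgLib.FiniteForms.polar_minus, add_dotProduct])
    (fun a x y => by simp only [CfsgLib.FiniteForms.polar_minus, smul_dotProduct, smul_eq_mul])

/-- The splitting of the model of plus type. -/
def coordW : (Fin 4 → ZMod 2 × ZMod 2) ≃+ W where
  toFun v := Sum.elim (fun i => (v i).1) fun i => (v i).2
  invFun w := fun i => (w (.inl i), w (.inr i))
  left_inv _ := rfl
  right_inv w := funext fun i => by rcases i with i | i <;> rfl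
  map_add' u v := funext fun i => by rcases i with i | i <;> rfl

/-- The splitting of the model of minus type. -/
def coordN : (Fin 4 → ZMod 2 × ZMod 2) ≃+ Wm where
  toFun v := Sum.elim (Sum.elim (fun i => (v i.succ).1) fun i => (v i.succ).2) ![(v 0).1, (v 0).2]
  invFun w := Fin.cons (w (.inr 0), w (.inr 1)) fun i => (w (.inl (.inl i)), w (.inl (.inr i)))
  left_inv v := funext fun i => by cases i using Fin.cases <;> simp
  right_inv w := funext fun i => by
    rcases i with (i | i) | i
    · simp
    · simp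
    · fin_cases i <;> simp
  map_add' u v := funext fun i => by
    rcases i with (i | i) | i
    · simp
    · simp
    · fin_cases i <;> simp

theorem coordW_form : ∀ v : Fin 4 → ZMod 2 × ZMod 2, qw (coordW v) = bil false v v := by decide +kernel

theorem coordN_form : ∀ v : Fin 4 → ZMod 2 × ZMod 2, qn (coordN v) = bil true v v := by decide +kernel

theorem card_qn : Nat.card ↥(quadIso qn) = 394813440 := by
  rw [← CfsgLib.OrthOrder.card_isometryGroup qn (Cfsg.quadFormMinus 3 F2 1 1) (LinearEquiv.refl F2 Wm) fun _ => rfl,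
    show Nat.card (Cfsg.isometryGroup F2 (Cfsg.quadFormMinus 3 F2 1 1)) = _ from
      CfsgLib.OrthOrder.card_O_minus 4 (by norm_num) (1 : F2) 1 (by decide), ZMod.card]
  decide +kernel

theorem card_qw : Nat.card ↥(quadIso qw) = 348364800 := by
  rw [← CfsgLib.OrthOrder.card_isometryGroup qw (Cfsg.quadFormPlus 4 F2) (LinearEquiv.refl F2 W) fun _ => rfl,
    CfsgLib.OrthOrder.card_O_plus 4 (by norm_num), ZMod.card]
  decide +kernel

theorem qw_nondeg : (polarBilin qw).Nondegenerate := by
  have h : ∀ u : W, (∀ i, polar qw u (Pi.single i 1) = 0) → u = 0 := by decide +kernel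
  constructor
  · exact fun u hu => h u fun i => hu _
  · exact fun u hu => h u fun i => (QuadraticMap.polar_comm qw _ _).trans (hu _)

theorem finrank_W : Module.finrank F2 W = 8 := by rw [Module.finrank_pi]; rfl

theorem closure_refl8 : Subgroup.closure (Refl qw) = ⊤ :=
  closure_refl qw qw_nondeg (Or.inr (by rw [finrank_W]; norm_num))

theorem index_comm8 : (commutator ↥(quadIso qw)).index = 2 :=
  CfsgLib.SpinorMatrix.index_commutator_two qw (by decide) qw_nondeg (by rw [finrank_W]; norm_num) closure_refl8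

theorem singular_count : (Finset.univ.filter fun x : W => qw x = 0).card = 136 := by decide +kernel

theorem nonsingular_one {v : W} (h : qw v ≠ 0) : qw v = 1 := (F2_cases _).resolve_left h

theorem refl_app {v : W} (hv : qw v ≠ 0) (u : W) : (refl qw hv).1 u = u + polar qw v u • v := by
  rw [refl_apply, nonsingular_one hv, inv_one, one_mul, ZMod.neg_eq_self_mod_two]

theorem iso_polar (g : ↥(quadIso qw)) (u v : W) : polar qw (g.1 u) (g.1 v) = polar qw u v := by
  simp only [polar, ← map_add, show ∀ x, qw (g.1 x) = qw x from g.2]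

theorem iso_inv_apply (g : ↥(quadIso qw)) (u : W) : g.1 ((g⁻¹).1 u) = u := g.1.apply_symm_apply u

theorem refl_conj (g : ↥(quadIso qw)) {v w : W} (hv : qw v ≠ 0) (hw : qw w ≠ 0) (h : g.1 v = w) :
    g * refl qw hv * g⁻¹ = refl qw hw := by
  refine Subtype.ext (LinearEquiv.ext fun u => ?_)
  show g.1 ((refl qw hv).1 ((g⁻¹).1 u)) = (refl qw hw).1 u
  rw [refl_app, refl_app, map_add, map_smul, iso_inv_apply, ← iso_polar g v, iso_inv_apply, h]

theorem refl_move {v w : W} (hv : qw v ≠ 0) (hw : qw w ≠ 0) (h : polar qw v w = 1) :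
    ∃ g : ↥(quadIso qw), g.1 v = w := by
  have hvw : qw (v + w) ≠ 0 := by
    have e : qw (v + w) = qw v + qw w + polar qw v w := QuadraticMap.map_add qw v w
    rw [e, nonsingular_one hv, nonsingular_one hw, h]
    decide
  refine ⟨refl qw hvw, ?_⟩
  have e : polar qw (v + w) v = 1 := by
    rw [polar_add_left, polar_self, nonsingular_one hv, polar_comm qw w v, h]
    decide
  rw [refl_app, e, one_smul]
  funext i
  simp only [Pi.add_apply]
  linear_combination CfsgLargeExtra.Types.two_eq_zero (v i)

/-- A base nonsingular vector. -/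
def v0 : W := fun i => if i = .inl 0 ∨ i = .inr 0 then 1 else 0

theorem v0_ok : qw v0 ≠ 0 ∧ ∀ w : W, qw w ≠ 0 → w = v0 ∨ polar qw v0 w = 1 ∨
    ∃ u : W, qw u ≠ 0 ∧ polar qw v0 u = 1 ∧ polar qw u w = 1 := by
  decide +kernel

/-- A normal subgroup of index two contains no reflection. -/
theorem refl_notMem {R : Subgroup ↥(quadIso qw)} (hR : R.index = 2) {v : W} (hv : qw v ≠ 0) : refl qw hv ∉ R := by
  intro hm
  have := Subgroup.normal_of_index_eq_two hR
  have step : ∀ {a b : W} (ha : qw a ≠ 0) (hb : qw b ≠ 0), (∃ g : ↥(quadIso qw), g.1 a = b) →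
      refl qw ha ∈ R → refl qw hb ∈ R := by
    rintro a b ha hb ⟨g, hg⟩ h
    rw [← refl_conj g ha hb hg]
    exact Subgroup.Normal.conj_mem inferInstance _ h g
  have hinv : ∀ {a b : W}, (∃ g : ↥(quadIso qw), g.1 a = b) → ∃ g : ↥(quadIso qw), g.1 b = a := by
    rintro a b ⟨g, hg⟩
    exact ⟨g⁻¹, by rw [← hg]; exact g.1.symm_apply_apply a⟩
  have link : ∀ {w : W}, qw w ≠ 0 → ∃ g : ↥(quadIso qw), g.1 v0 = w := by
    intro w hw
    rcases v0_ok.2 w hw with rfl | h | ⟨u, hu, h1, h2⟩
    · exact ⟨1, rfl⟩
    · exact refl_move v0_ok.1 hw h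
    · obtain ⟨g1, e1⟩ := refl_move v0_ok.1 hu h1
      obtain ⟨g2, e2⟩ := refl_move hu hw h2
      exact ⟨g2 * g1, by show g2.1 (g1.1 v0) = w; rw [e1, e2]⟩
  have h0 : refl qw v0_ok.1 ∈ R := step hv v0_ok.1 (hinv (link hv)) hm
  have htop : R = ⊤ := by
    rw [eq_top_iff, ← closure_refl8, Subgroup.closure_le]
    rintro _ ⟨w, hw, rfl⟩
    exact step v0_ok.1 hw (link hw) h0
  rw [htop, Subgroup.index_top] at hR
  omega

end CfsgSuzLeech
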