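/-
An element of order three centralising an involution with extraspecial core of order 2^9: the part of the core it
fixes has order 2^7 and is of minus type.
-/
import Cfsg.Agent.Lib.SuzLeech.Space8

set_option autoImplicit false

namespace CfsgSuzLeech

open QuadraticMap CfsgLib.WittExtension CfsgLargeExtra CfsgLargeExtra.Types
open CfsgLib.SuzType (F2 F2_cases)

variable {G : Type*} [Group G]

/-- Coordinates of the core, the action of the centraliser, and the element. -/
structure Act (z : G) (Q : Subgroup G) (π : G → W) (M : ↥(Subgroup.centralizer ({z} : Set G)) →* ↥(quadIso qw))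
    (a : G) : Prop where
  es : ES Q z
  π_mul : ∀ x ∈ Q, ∀ y ∈ Q, π (x * y) = π x + π y
  π_ker : ∀ x ∈ Q, π x = 0 → x = 1 ∨ x = z
  π_surj : ∀ v : W, ∃ x ∈ Q, π x = v
  π_z : π z = 0
  sq : ∀ x ∈ Q, (x * x = 1 ↔ qw (π x) = 0)
  M_act : ∀ c : ↥(Subgroup.centralizer ({z} : Set G)), ∀ x ∈ Q, π ((c : G) * x * (c : G)⁻¹) = (M c).1 (π x)
  M_ker : ∀ c : ↥(Subgroup.centralizer ({z} : Set G)), M c = 1 ↔ (c : G) ∈ Q
  range : M.range = commutator ↥(quadIso qw)
  az : a * z = z * a
  cube : a * a * a = 1
  ne : a ≠ 1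
  six : ∃ x : Fin 6 → G, (∀ i, x i ∈ Q ∧ x i * a = a * x i) ∧
    (∀ i j : Fin 6, i.val / 2 = j.val / 2 → i ≠ j → x i * x j ≠ x j * x i) ∧
    (∀ i j : Fin 6, i.val / 2 ≠ j.val / 2 ∨ i = j → x i * x j = x j * x i)

theorem add_self_W (v : W) : v + v = 0 := funext fun i => two_eq_zero (v i)

namespace Act

variable {z : G} {Q : Subgroup G} {π : G → W} {M : ↥(Subgroup.centralizer ({z} : Set G)) →* ↥(quadIso qw)} {a : G}
  (h : Act z Q π M a)
include h

/-- The element in the centraliser. -/
def aC : ↥(Subgroup.centralizer ({z} : Set G)) := ⟨a, Subgroup.mem_centralizer_singleton_iff.mpr h.az⟩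

/-- Its action. -/
noncomputable def al : W → W := (M h.aC).1

theorem al_add (x y : W) : h.al (x + y) = h.al x + h.al y := map_add (M h.aC).1 x y

theorem al_zero : h.al 0 = 0 := map_zero (M h.aC).1

theorem al_cube (x : W) : h.al (h.al (h.al x)) = x := by
  have e : h.aC * h.aC * h.aC = 1 := Subtype.ext h.cube
  have e2 : M h.aC * M h.aC * M h.aC = 1 := by rw [← map_mul, ← map_mul, e, map_one]
  exact congrArg (fun g : ↥(quadIso qw) => g.1 x) e2

theorem al_q (x : W) : qw (h.al x) = qw x := (M h.aC).2 x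

theorem al_polar (x y : W) : polar qw (h.al x) (h.al y) = polar qw x y := iso_polar _ x y

theorem π_one : π 1 = 0 := by
  have := h.π_mul 1 (one_mem _) 1 (one_mem _)
  rwa [mul_one, left_eq_add] at this

theorem π_inv {x : G} (hx : x ∈ Q) : π x⁻¹ = π x := by
  have := h.π_mul x hx x⁻¹ (inv_mem hx)
  rw [mul_inv_cancel, h.π_one] at this
  have h2 := congrArg (fun w => π x + w) this
  simp only [add_zero, ← add_assoc, add_self_W, zero_add] at h2
  exact h2.symm

theorem π_eq {x y : G} (hx : x ∈ Q) (hy : y ∈ Q) (e : π x = π y) : x = y ∨ x = z * y := by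
  have h1 : π (x * y⁻¹) = 0 := by rw [h.π_mul x hx _ (inv_mem hy), h.π_inv hy, e, add_self_W]
  rcases h.π_ker _ (mul_mem hx (inv_mem hy)) h1 with e1 | e1
  · exact Or.inl (mul_inv_eq_one.mp e1)
  · exact Or.inr (mul_inv_eq_iff_eq_mul.mp e1)

theorem not_mem : a ∉ Q := by
  intro hm
  rcases h.es.sq a hm with e | e
  · exact h.ne (by have := h.cube; rwa [e, one_mul] at this)
  · refine h.es.ne ?_
    have h4 : a * a * (a * a) = 1 := by rw [e]; exact h.es.zz
    have h3 : a * a * (a * a) = a := by
      calc a * a * (a * a) = a * a * a * a := by group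
        _ = a := by rw [h.cube, one_mul]
    have h1 : a = 1 := h3.symm.trans h4
    rw [h1, one_mul] at e
    exact e.symm

/-- The part of the core fixed by the element. -/
def fixQ (_h : Act z Q π M a) : Subgroup G := Q ⊓ Subgroup.centralizer {a}

theorem mem_fixQ {x : G} : x ∈ h.fixQ ↔ x ∈ Q ∧ x * a = a * x :=
  ⟨fun hx => ⟨hx.1, Subgroup.mem_centralizer_singleton_iff.mp hx.2⟩,
    fun hx => ⟨hx.1, Subgroup.mem_centralizer_singleton_iff.mpr hx.2⟩⟩

theorem z_fix : z ∈ h.fixQ := h.mem_fixQ.mpr ⟨h.es.mem, h.az.symm⟩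

theorem fix_iff {x : G} (hx : x ∈ Q) : h.al (π x) = π x ↔ x ∈ h.fixQ := by
  show (M h.aC).1 (π x) = π x ↔ _
  rw [← h.M_act _ x hx]
  constructor
  · intro e
    have hax := h.es.nor a h.az x hx
    refine h.mem_fixQ.mpr ⟨hx, ?_⟩
    rcases h.π_eq hax hx e with e1 | e1
    · exact (mul_inv_eq_iff_eq_mul.mp e1).symm
    · exfalso
      refine h.es.ne ?_
      have hzc : a * z * a⁻¹ = z := by rw [h.az, mul_inv_cancel_right]
      have h2 : a * (a * x * a⁻¹) * a⁻¹ = x := by
        conv_lhs => rw [e1]
        calc a * (z * x) * a⁻¹ = a * z * a⁻¹ * (a * x * a⁻¹) := by group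
          _ = x := by rw [hzc, e1, ← mul_assoc, h.es.zz, one_mul]
      have h3 : a * (a * (a * x * a⁻¹) * a⁻¹) * a⁻¹ = x := by
        calc a * (a * (a * x * a⁻¹) * a⁻¹) * a⁻¹ = a * a * a * x * (a * a * a)⁻¹ := by group
          _ = x := by rw [h.cube]; group
      rw [h2, e1] at h3
      exact mul_eq_right.mp h3
  · intro hm
    rw [show (h.aC : G) = a from rfl, ← (h.mem_fixQ.mp hm).2, mul_inv_cancel_right]

/-- The coordinates as a homomorphism on the fixed part. -/
def piFix : ↥h.fixQ →* Multiplicative W where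
  toFun x := Multiplicative.ofAdd (π x)
  map_one' := congrArg Multiplicative.ofAdd h.π_one
  map_mul' x y := congrArg Multiplicative.ofAdd (h.π_mul _ x.2.1 _ y.2.1)

/-- The fixed vectors. -/
noncomputable def fixW : Subgroup (Multiplicative W) where
  carrier := {v | h.al v.toAdd = v.toAdd}
  mul_mem' := fun {u v} hu hv => by
    show h.al (u.toAdd + v.toAdd) = _
    rw [h.al_add, hu, hv]
    rfl
  one_mem' := h.al_zero
  inv_mem' := fun {u} hu => by
    show h.al (-u.toAdd) = -u.toAdd
    rw [show -u.toAdd = u.toAdd from funext fun i => ZMod.neg_eq_self_mod_two _, hu]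

theorem range_piFix : h.piFix.range = h.fixW := by
  ext v
  constructor
  · rintro ⟨x, rfl⟩
    exact (h.fix_iff x.2.1).mpr x.2
  · intro hv
    obtain ⟨x, hx, e⟩ := h.π_surj v.toAdd
    refine ⟨⟨x, (h.fix_iff hx).mp ?_⟩, congrArg Multiplicative.ofAdd e⟩
    rw [e]; exact hv

theorem card_ker_piFix : Nat.card ↥h.piFix.ker = 2 := by
  rw [Nat.card_eq_two_iff]
  refine ⟨1, ⟨⟨z, h.z_fix⟩, MonoidHom.mem_ker.mpr (congrArg Multiplicative.ofAdd h.π_z)⟩, fun e =>
    h.es.ne (congrArg (fun k : ↥h.piFix.ker => ((k : ↥h.fixQ) : G)) e).symm, Set.eq_univ_of_forall fun k => ?_⟩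
  rcases h.π_ker _ k.1.2.1 (congrArg Multiplicative.toAdd (MonoidHom.mem_ker.mp k.2)) with e | e
  · exact Or.inl (Subtype.ext (Subtype.ext e))
  · exact Or.inr (Subtype.ext (Subtype.ext e))

theorem card_fix_eq : Nat.card ↥h.fixQ = 2 * Nat.card ↥h.fixW := by
  rw [← h.piFix.ker.card_mul_index, h.card_ker_piFix, Subgroup.index_ker, h.range_piFix]

theorem ker_lt : Nat.card ↥h.fixW ≤ 64 := by
  have hW : Nat.card (Multiplicative W) = 256 := by
    rw [Nat.card_congr Multiplicative.toAdd, Nat.card_fun, Nat.card_zmod, Nat.card_eq_fintype_card,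
      Fintype.card_sum, Fintype.card_fin]
    norm_num
  have hmul := h.fixW.card_mul_index
  rw [hW] at hmul
  have h1 : h.fixW.index ≠ 1 := by
    rw [Ne, Subgroup.index_eq_one]
    intro e
    refine h.not_mem ((h.M_ker h.aC).mp (Subtype.ext (LinearEquiv.ext fun v => ?_)))
    exact (e.symm ▸ Subgroup.mem_top _ : Multiplicative.ofAdd v ∈ h.fixW)
  have h2 : h.fixW.index ≠ 2 := by
    intro e
    refine h1 (Subgroup.index_eq_one.mpr (eq_top_iff.mpr fun v _ => ?_))
    by_cases hv : v ∈ h.fixW
    · exact hv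
    set u := v.toAdd
    have hd : v * Multiplicative.ofAdd (h.al u) ∈ h.fixW := by
      rw [Subgroup.mul_mem_iff_of_index_two e]
      refine iff_of_false hv fun hm => hv ?_
      have hm' : h.al (h.al u) = h.al u := hm
      show h.al u = u
      have := h.al_cube u
      rw [hm', hm'] at this
      exact this
    have hd' : h.al (u + h.al u) = u + h.al u := hd
    rw [h.al_add] at hd'
    show h.al u = u
    have h3 : h.al (h.al u) = u := by
      funext i
      have := congrFun hd' i
      simp only [Pi.add_apply] at this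
      linear_combination this
    have h4 := h.al_cube u
    rw [h3] at h4
    exact h4
  have hpos : h.fixW.index ≠ 0 := Subgroup.index_ne_zero_of_finite
  by_contra hlt
  push Not at hlt
  have hi : h.fixW.index * 65 ≤ 256 := by
    rw [← hmul, mul_comm (Nat.card _)]
    exact Nat.mul_le_mul_left _ hlt
  have : h.fixW.index ≤ 3 := by omega
  interval_cases hh : h.fixW.index
  all_goals omega

theorem commutator_mem {x y : G} (hx : x ∈ Q) (hy : y ∈ Q) : x * y = y * x ∨ x * y = z * (y * x) := by
  refine h.π_eq (mul_mem hx hy) (mul_mem hy hx) ?_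
  rw [h.π_mul x hx y hy, h.π_mul y hy x hx, add_comm]

theorem card_fixQ [Finite G] : Nat.card ↥h.fixQ = 128 := by
  classical
  refine le_antisymm ?_ ?_
  · rw [h.card_fix_eq]
    have := h.ker_lt
    omega
  obtain ⟨x, hx, hpair, horth⟩ := h.six
  have hzc : ∀ y ∈ Q, y * z = z * y := h.es.comm
  let cz : Fin 6 → ↥h.fixQ → ZMod 2 := fun i y => if (y : G) * x i = x i * y then 0 else 1
  have cmul : ∀ i y y', cz i (y * y') = cz i y + cz i y' := by
    intro i y y'
    have hy := h.commutator_mem y.2.1 (hx i).1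
    have hy' := h.commutator_mem y'.2.1 (hx i).1
    have h0 : ∀ {w : G}, w ≠ z * w := fun {w} e => h.es.ne (right_eq_mul.mp e)
    rcases hy with e | e <;> rcases hy' with e' | e'
    · have hp : ((y * y' : ↥h.fixQ) : G) * x i = x i * (y * y' : ↥h.fixQ) := by
        rw [Subgroup.coe_mul, mul_assoc, e', ← mul_assoc, e, mul_assoc]
      simp only [cz, hp, e, e', if_true, add_zero]
    · have hp : ((y * y' : ↥h.fixQ) : G) * x i = z * (x i * (y * y' : ↥h.fixQ)) := by
        rw [Subgroup.coe_mul, mul_assoc, e', ← mul_assoc, hzc _ y.2.1, mul_assoc z, ← mul_assoc (y : G), e,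
          mul_assoc]
      simp only [cz, hp, e, e', if_neg h0.symm, if_true, zero_add]
    · have hp : ((y * y' : ↥h.fixQ) : G) * x i = z * (x i * (y * y' : ↥h.fixQ)) := by
        rw [Subgroup.coe_mul, mul_assoc, e', ← mul_assoc, e, mul_assoc, mul_assoc]
      simp only [cz, hp, e, e', if_neg h0.symm, if_true, add_zero]
    · have hp : ((y * y' : ↥h.fixQ) : G) * x i = x i * (y * y' : ↥h.fixQ) := by
        rw [Subgroup.coe_mul, mul_assoc, e', ← mul_assoc, hzc _ y.2.1, mul_assoc z, ← mul_assoc (y : G), e,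
          mul_assoc z (x i * (y : G)), ← mul_assoc z z, h.es.zz, one_mul, mul_assoc]
      simp only [cz, hp, e, e', if_neg h0.symm, if_true]
      decide
  have cone : ∀ i, cz i 1 = 0 := fun i => if_pos (by simp)
  let χ : ↥h.fixQ →* Multiplicative (Fin 6 → ZMod 2) :=
    { toFun := fun y => Multiplicative.ofAdd fun i => cz i y
      map_one' := congrArg Multiplicative.ofAdd (funext cone)
      map_mul' := fun y y' => congrArg Multiplicative.ofAdd (funext fun i => cmul i y y') }
  have hunit : ∀ k : Fin 6, ∃ j : Fin 6, ∀ i : Fin 6, (i = k → i.val / 2 = j.val / 2 ∧ j ≠ i) ∧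
      (i ≠ k → j.val / 2 ≠ i.val / 2 ∨ j = i) := by decide
  have hsurj : Function.Surjective χ := by
    intro v
    have hsingle : ∀ k : Fin 6, Multiplicative.ofAdd (Pi.single k (1 : ZMod 2) : Fin 6 → ZMod 2) ∈ χ.range := by
      intro k
      obtain ⟨j, hj⟩ := hunit k
      refine ⟨⟨x j, h.mem_fixQ.mpr (hx j)⟩, congrArg Multiplicative.ofAdd (funext fun i => ?_)⟩
      by_cases hik : i = k
      · obtain ⟨h1, h2⟩ := (hj i).1 hik
        subst hik
        rw [Pi.single_eq_same]
        exact if_neg (hpair j i h1.symm h2)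
      · rw [Pi.single_eq_of_ne hik]
        exact if_pos (horth j i ((hj i).2 hik))
    have hv : v = ∏ k : Fin 6, if v.toAdd k = 1 then Multiplicative.ofAdd (Pi.single k (1 : ZMod 2) : Fin 6 → ZMod 2)
        else 1 := by
      apply Multiplicative.toAdd.injective
      funext i
      rw [toAdd_prod, Finset.sum_apply, Finset.sum_eq_single i]
      · rcases F2_cases (v.toAdd i) with e | e <;> simp [e]
      · intro b _ hb
        split_ifs <;> simp [Ne.symm hb]
      · simp
    rw [hv]
    refine χ.range.prod_mem fun k _ => ?_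
    split_ifs
    exacts [hsingle k, one_mem _]
  have hk : 2 ≤ Nat.card ↥χ.ker := by
    have hz1 : (⟨z, h.z_fix⟩ : ↥h.fixQ) ∈ χ.ker :=
      MonoidHom.mem_ker.mpr (congrArg Multiplicative.ofAdd (funext fun i => if_pos (hzc _ (hx i).1).symm))
    by_contra hlt
    push Not at hlt
    have hpos : 0 < Nat.card ↥χ.ker := Nat.card_pos
    have hb : χ.ker = ⊥ := χ.ker.eq_bot_of_card_eq (by omega)
    rw [hb, Subgroup.mem_bot] at hz1
    exact h.es.ne (congrArg Subtype.val hz1)
  rw [← χ.ker.card_mul_index, Subgroup.index_ker, MonoidHom.range_eq_top.mpr hsurj, Subgroup.card_top,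
    Nat.card_congr Multiplicative.toAdd, Nat.card_fun, Nat.card_zmod, Nat.card_fin]
  omega

theorem card_fixW [Finite G] : Nat.card ↥h.fixW = 64 := by
  have := h.card_fix_eq
  rw [h.card_fixQ] at this
  omega

/-- The projection onto the fixed vectors. -/
noncomputable def eW (x : W) : W := x + h.al x + h.al (h.al x)

theorem eW_add (x y : W) : h.eW (x + y) = h.eW x + h.eW y := by
  simp only [eW, h.al_add]
  abel

theorem al_eW (x : W) : h.al (h.eW x) = h.eW x := by
  simp only [eW, h.al_add, h.al_cube]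
  abel

theorem eW_fix {x : W} (hx : h.al x = x) : h.eW x = x := by
  simp only [eW, hx, add_self_W, zero_add]

theorem eW_rest (x : W) : h.eW (x + h.eW x) = 0 := by
  rw [h.eW_add, h.eW_fix (h.al_eW x), add_self_W]

theorem eW_split (x : W) : h.eW x + (x + h.eW x) = x := by
  rw [add_left_comm, add_self_W, add_zero]

theorem polar_eW {f : W} (hf : h.al f = f) (x : W) : polar qw f (h.eW x) = polar qw f x := by
  have h1 : ∀ y, polar qw f (h.al y) = polar qw f y := fun y => by
    conv_lhs => rw [← hf]
    exact h.al_polar f y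
  simp only [eW, polar_add_right, h1]
  linear_combination two_eq_zero (polar qw f x)

theorem polar_perp {f p : W} (hf : h.al f = f) (hp : h.eW p = 0) : polar qw f p = 0 := by
  rw [← h.polar_eW hf p, hp]
  simp [polar]

theorem q_sum {f p : W} (hf : h.al f = f) (hp : h.eW p = 0) : qw (f + p) = qw f + qw p := by
  rw [QuadraticMap.map_add qw f p, h.polar_perp hf hp, add_zero]

theorem al_ne {p : W} (hp : h.eW p = 0) (hp0 : p ≠ 0) : h.al p ≠ p := fun e => hp0 ((h.eW_fix e).symm.trans hp)

theorem perp_rel {p : W} (hp : h.eW p = 0) : h.al (h.al p) = p + h.al p := by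
  funext i
  have := congrFun hp i
  simp only [eW, Pi.add_apply, Pi.zero_apply] at this ⊢
  linear_combination this - (two_eq_zero (p i) + two_eq_zero (h.al p i))

theorem eW_al (p : W) : h.eW (h.al p) = h.eW p := by
  simp only [eW, h.al_cube]
  abel

/-- The complement of the fixed vectors has order four. -/
theorem card_perp [Finite G] : Nat.card {p : W // h.eW p = 0} = 4 := by
  let E : W ≃ {f : W // h.al f = f} × {p : W // h.eW p = 0} :=
    { toFun := fun x => (⟨h.eW x, h.al_eW x⟩, ⟨x + h.eW x, h.eW_rest x⟩)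
      invFun := fun y => y.1.1 + y.2.1
      left_inv := fun x => h.eW_split x
      right_inv := fun y => by
        have e : h.eW (y.1.1 + y.2.1) = y.1.1 := by rw [h.eW_add, h.eW_fix y.1.2, y.2.2, add_zero]
        refine Prod.ext (Subtype.ext e) (Subtype.ext ?_)
        show y.1.1 + y.2.1 + h.eW (y.1.1 + y.2.1) = y.2.1
        rw [e, add_right_comm, add_self_W, zero_add] }
  have h1 := Nat.card_congr E
  rw [Nat.card_prod, show Nat.card {f : W // h.al f = f} = Nat.card ↥h.fixW from
    Nat.card_congr (Equiv.subtypeEquiv Multiplicative.ofAdd fun _ => Iff.rfl), h.card_fixW, Nat.card_fun,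
    Nat.card_zmod, Nat.card_eq_fintype_card, Fintype.card_sum, Fintype.card_fin] at h1
  omega

theorem perp_cases [Finite G] {p r : W} (hp : h.eW p = 0) (hp0 : p ≠ 0) (hr : h.eW r = 0) :
    r = 0 ∨ r = p ∨ r = h.al p ∨ r = h.al (h.al p) := by
  classical
  have hz : h.eW 0 = 0 := h.eW_fix h.al_zero
  have hap : h.al p ≠ 0 := fun e => hp0 (by rw [← h.al_cube p, e, h.al_zero, h.al_zero])
  have hap2 : h.al (h.al p) ≠ 0 := fun e => hp0 (by rw [← h.al_cube p, e, h.al_zero])
  have n1 : h.al p ≠ p := h.al_ne hp hp0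
  have n2 : h.al (h.al p) ≠ p := fun e => n1 (by have := h.al_cube p; rwa [e] at this)
  have n3 : h.al (h.al p) ≠ h.al p := h.al_ne (by rw [h.eW_al, hp]) hap
  set T : Finset W := Finset.univ.filter fun x => h.eW x = 0
  have hT : T.card = 4 := by
    rw [← h.card_perp, Nat.card_eq_fintype_card, Fintype.card_subtype]
  have hsub : ({0, p, h.al p, h.al (h.al p)} : Finset W) ⊆ T := by
    intro x hx
    simp only [Finset.mem_insert, Finset.mem_singleton] at hx
    rcases hx with rfl | rfl | rfl | rfl
    all_goals simp only [T, Finset.mem_filter, Finset.mem_univ, true_and, h.eW_al, hp, hz]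
  have hc : ({0, p, h.al p, h.al (h.al p)} : Finset W).card = 4 :=
    Finset.card_eq_four.mpr ⟨_, _, _, _, hp0.symm, hap.symm, hap2.symm, n1.symm, n2.symm, n3.symm, rfl⟩
  have := Finset.eq_of_subset_of_card_le hsub (by rw [hT, hc])
  have hrT : r ∈ T := by simp only [T, Finset.mem_filter, Finset.mem_univ, true_and, hr]
  rw [← this] at hrT
  simpa [Finset.mem_insert] using hrT

theorem q_perp [Finite G] {p : W} (hp : h.eW p = 0) (hp0 : p ≠ 0) : qw p = 1 := by
  rcases F2_cases (qw p) with e | e
  · exfalso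
    refine hp0 (qw_nondeg.1 p fun u => ?_)
    show polar qw p u = 0
    have hsum : u = h.eW u + (u + h.eW u) := (h.eW_split u).symm
    rw [hsum, polar_add_right, polar_comm qw p (h.eW u), h.polar_perp (h.al_eW u) hp, zero_add]
    have e1 : qw (h.al p) = 0 := by rw [h.al_q, e]
    have e2 : qw (p + h.al p) = 0 := by rw [← h.perp_rel hp, h.al_q, e1]
    have epa : polar qw p (h.al p) = 0 := by
      rw [QuadraticMap.map_add qw p (h.al p), e, e1, zero_add, zero_add] at e2
      exact e2
    have epp : polar qw p p = 0 := by rw [polar_self, e]; simp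
    rcases h.perp_cases hp hp0 (h.eW_rest u) with r | r | r | r <;> rw [r]
    · simp [polar]
    · exact epp
    · exact epa
    · rw [h.perp_rel hp, polar_add_right, epp, epa, add_zero]
  · exact e

theorem exists_perp [Finite G] : ∃ p : W, h.eW p = 0 ∧ p ≠ 0 := by
  by_contra hall
  push Not at hall
  have : Subsingleton {p : W // h.eW p = 0} := ⟨fun x y => Subtype.ext ((hall x.1 x.2).trans (hall y.1 y.2).symm)⟩
  have := Finite.card_le_one_iff_subsingleton.mpr this
  rw [h.card_perp] at this
  omega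

/-- An isometry commuting with the element and fixing all its fixed vectors is one of its powers. -/
theorem eq_pow [Finite G] {g : ↥(quadIso qw)} (hc : ∀ x, g.1 (h.al x) = h.al (g.1 x))
    (hf : ∀ f, h.al f = f → g.1 f = f) : ∃ i : ℕ, g = M (h.aC ^ i) := by
  obtain ⟨p, hp, hp0⟩ := h.exists_perp
  have hgp : h.eW (g.1 p) = 0 := by
    simp only [eW, ← hc, ← map_add]
    rw [show p + h.al p + h.al (h.al p) = 0 from hp, map_zero]
  have hne : g.1 p ≠ 0 := fun e => hp0 (g.1.injective (by rw [e, map_zero]))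
  obtain ⟨i, hi⟩ : ∃ i : ℕ, g.1 p = (M (h.aC ^ i)).1 p := by
    rcases h.perp_cases hp hp0 hgp with r | r | r | r
    · exact absurd r hne
    · exact ⟨0, by rw [pow_zero, map_one]; exact r⟩
    · exact ⟨1, by rw [pow_one]; exact r⟩
    · exact ⟨2, by rw [pow_two, map_mul]; exact r⟩
  refine ⟨i, Subtype.ext (LinearEquiv.ext fun u => ?_)⟩
  have hcomm : ∀ x, (M (h.aC ^ i)).1 (h.al x) = h.al ((M (h.aC ^ i)).1 x) := fun x => by
    show ((M (h.aC ^ i) * M h.aC : ↥(quadIso qw))).1 x = ((M h.aC * M (h.aC ^ i) : ↥(quadIso qw))).1 x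
    rw [← map_mul, ← map_mul, ← pow_succ, ← pow_succ']
  have hfix : ∀ (k : ℕ) f, h.al f = f → (M (h.aC ^ k)).1 f = f := fun k f hfx => by
    induction k with
    | zero => rw [pow_zero, map_one]; rfl
    | succ k ih => rw [pow_succ, map_mul]; show (M (h.aC ^ k)).1 (h.al f) = f; rw [hfx, ih]
  have hperp : ∀ r, h.eW r = 0 → g.1 r = (M (h.aC ^ i)).1 r := fun r hr => by
    rcases h.perp_cases hp hp0 hr with rfl | rfl | rfl | rfl
    · rw [map_zero, map_zero]
    · exact hi
    · rw [hc, hcomm, hi]
    · rw [hc, hc, hcomm, hcomm, hi]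
  rw [← h.eW_split u, g.1.map_add (h.eW u) (u + h.eW u), (M (h.aC ^ i)).1.map_add (h.eW u) (u + h.eW u), hperp _ (h.eW_rest u), hf _ (h.al_eW u), hfix i _ (h.al_eW u)]

theorem singular_fix [Finite G] : Nat.card {f : W // h.al f = f ∧ qw f = 0} = 28 := by
  classical
  have h4 : (Finset.univ.filter fun p : W => h.eW p = 0).card = 4 := by
    have := h.card_perp
    rwa [Nat.card_eq_fintype_card, Fintype.card_subtype] at this
  set Fx : Finset W := Finset.univ.filter fun f => h.al f = f with hFx
  have h64 : Fx.card = 64 := by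
    rw [← h.card_fixW, hFx, ← Fintype.card_subtype, ← Nat.card_eq_fintype_card]
    exact Nat.card_congr (Equiv.subtypeEquiv Multiplicative.ofAdd fun _ => Iff.rfl)
  set A := Fx.filter fun f => qw f = 0
  set B := Fx.filter fun f => qw f = 1
  have hAB : A.card + B.card = 64 := by
    have := Finset.card_filter_add_card_filter_not (s := Fx) (fun f => qw f = 0)
    have hB : B = Fx.filter fun f => ¬ qw f = 0 := Finset.filter_congr fun f _ => by
      rcases F2_cases (qw f) with e | e <;> simp [e]
    rw [hB]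
    exact this.trans h64
  set P := Finset.univ.filter fun p : W => h.eW p = 0 with hP
  have hz : h.eW 0 = 0 := h.eW_fix h.al_zero
  have h3 : (P.erase 0).card = 3 := by
    rw [Finset.card_erase_of_mem (by simp [hP, hz]), h4]
  have hS : (Finset.univ.filter fun x : W => qw x = 0).card = A.card + B.card * 3 := by
    let emb : W ↪ W × W := ⟨fun x => (x, 0), fun _ _ e => congrArg Prod.fst e⟩
    have hu : (A.map emb ∪ B ×ˢ P.erase 0).card = A.card + B.card * 3 := by
      rw [Finset.card_union_of_disjoint, Finset.card_map, Finset.card_product, h3]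
      rw [Finset.disjoint_left]
      intro y hy1 hy2
      obtain ⟨f, -, rfl⟩ := Finset.mem_map.mp hy1
      exact (Finset.mem_erase.mp (Finset.mem_product.mp hy2).2).1 rfl
    rw [← hu]
    · refine Finset.card_bij (fun x _ => (h.eW x, x + h.eW x)) (fun x hx => ?_) (fun x _ y _ e => ?_) (fun y hy => ?_)
      · have hq : qw (h.eW x) + qw (x + h.eW x) = 0 := by
          rw [← h.q_sum (h.al_eW x) (h.eW_rest x), h.eW_split]
          simpa using hx
        simp only [Finset.mem_union, Finset.mem_map, emb, Finset.mem_product,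
          Finset.mem_erase, A, B, Fx, P, Finset.mem_filter, Finset.mem_univ, true_and]
        by_cases h0 : x + h.eW x = 0
        · refine Or.inl ⟨_, ⟨h.al_eW x, ?_⟩, Prod.ext rfl h0.symm⟩
          simpa [h0] using hq
        · refine Or.inr ⟨⟨h.al_eW x, ?_⟩, h0, h.eW_rest x⟩
          rw [h.q_perp (h.eW_rest x) h0] at hq
          rcases F2_cases (qw (h.eW x)) with e | e
          · rw [e] at hq; exact absurd hq (by decide)
          · exact e
      · rw [← h.eW_split x, ← h.eW_split y]
        exact congrArg₂ (· + ·) (Prod.ext_iff.mp e).1 (Prod.ext_iff.mp e).2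
      · simp only [Finset.mem_union, Finset.mem_map, emb, Finset.mem_product,
          Finset.mem_erase, A, B, Fx, P, Finset.mem_filter, Finset.mem_univ, true_and] at hy
        have key : ∀ f p : W, h.al f = f → h.eW p = 0 → qw f + qw p = 0 →
            ∃ x, ∃ (_ : x ∈ Finset.univ.filter fun x : W => qw x = 0), (h.eW x, x + h.eW x) = (f, p) := by
          intro f p hf hp hq
          have e : h.eW (f + p) = f := by rw [h.eW_add, h.eW_fix hf, hp, add_zero]
          refine ⟨f + p, by simp [h.q_sum hf hp, hq], Prod.ext e ?_⟩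
          rw [e, add_right_comm, add_self_W, zero_add]
        rcases hy with ⟨f, ⟨hf, hq⟩, rfl⟩ | ⟨⟨hf, hq⟩, hp0, hp⟩
        · exact key f 0 hf hz (by simp [hq])
        · exact key y.1 y.2 hf hp (by rw [hq, h.q_perp hp hp0]; decide)
  rw [singular_count] at hS
  rw [Nat.card_eq_fintype_card, Fintype.card_subtype]
  have hA : (Finset.univ.filter fun f : W => h.al f = f ∧ qw f = 0).card = A.card := by
    refine congrArg Finset.card ?_
    simp only [A, Fx, Finset.filter_filter]
  rw [hA]
  omega

theorem rootCount_fixQ [Finite G] : CfsgLib.ExtraTwo.rootCount ↥h.fixQ = 56 := by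
  classical
  let φ : {x : ↥h.fixQ // x * x = 1} → {f : W // h.al f = f ∧ qw f = 0} := fun x =>
    ⟨π x.1, (h.fix_iff x.1.2.1).mpr x.1.2, (h.sq _ x.1.2.1).mp (congrArg Subtype.val x.2)⟩
  let Ψ : {f : W // h.al f = f ∧ qw f = 0} × Bool → {x : ↥h.fixQ // x * x = 1} := fun y =>
    have hc := (h.π_surj y.1.1).choose_spec
    ⟨⟨(bif y.2 then z else 1) * (h.π_surj y.1.1).choose, mul_mem (by cases y.2; exacts [one_mem _, h.z_fix])
      ((h.fix_iff hc.1).mp (by rw [hc.2]; exact y.1.2.1))⟩, Subtype.ext (by
        have hsq := (h.sq _ hc.1).mpr (by rw [hc.2]; exact y.1.2.2)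
        show (bif y.2 then z else 1) * _ * ((bif y.2 then z else 1) * _) = 1
        cases y.2
        · simpa using hsq
        · simp only [cond_true]
          rw [mul_assoc, ← mul_assoc (Exists.choose _) z, h.es.comm _ hc.1, mul_assoc z, ← mul_assoc z z,
            h.es.zz, one_mul, hsq])⟩
  have hΨ : Function.Bijective Ψ := by
    refine ⟨fun y y' e => ?_, fun x => ?_⟩
    · have e' : ((bif y.2 then z else 1) * (h.π_surj y.1.1).choose : G) =
          (bif y'.2 then z else 1) * (h.π_surj y'.1.1).choose := congrArg (fun u => ((u.1 : ↥h.fixQ) : G)) e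
      have hv : ∀ w : {f : W // h.al f = f ∧ qw f = 0} × Bool,
          π ((bif w.2 then z else 1) * (h.π_surj w.1.1).choose) = w.1.1 := fun w => by
        rw [h.π_mul _ (by cases w.2; exacts [one_mem _, h.es.mem]) _ (h.π_surj w.1.1).choose_spec.1,
          (h.π_surj w.1.1).choose_spec.2]
        cases w.2 <;> simp [h.π_one, h.π_z]
      have e1 : y.1 = y'.1 := Subtype.ext (by rw [← hv y, ← hv y', e'])
      refine Prod.ext e1 ?_
      rw [e1] at e'
      have e2 := mul_right_cancel e'
      cases hb : y.2 <;> cases hb' : y'.2 <;> rw [hb, hb'] at e2 <;> simp only [cond_true, cond_false] at e2 <;>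
        first | exact absurd e2 h.es.ne | exact absurd e2.symm h.es.ne
    · set f := φ x
      rcases h.π_eq x.1.2.1 (h.π_surj f.1).choose_spec.1 ((h.π_surj f.1).choose_spec.2).symm with e | e
      · exact ⟨(f, false), Subtype.ext (Subtype.ext (by simpa [Ψ] using e.symm))⟩
      · exact ⟨(f, true), Subtype.ext (Subtype.ext (by simpa [Ψ] using e.symm))⟩
  have hc := Nat.card_congr (Equiv.ofBijective Ψ hΨ)
  rw [Nat.card_prod, h.singular_fix, Nat.card_eq_fintype_card (α := Bool), Fintype.card_bool] at hc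
  exact hc.symm

end Act

end CfsgSuzLeech
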