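/-
The centraliser of the element of order three inside the involution centraliser induces the derived orthogonal
group on the fixed vectors.
-/
import Cfsg.Agent.Lib.SuzLeech.Fixed

set_option autoImplicit false
set_option linter.unusedSectionVars false

namespace CfsgSuzLeech

open QuadraticMap CfsgLib.WittExtension CfsgLib.SpinorNorm CfsgLargeExtra CfsgLargeExtra.Types
open CfsgLib.SuzType (F2 F2_cases V qf O6 Om minusCoord minusCoord_form model_coord)

variable {G : Type*} [Group G] [Finite G] {z : G} {Q : Subgroup G} {π : G → W}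
  {M : ↥(Subgroup.centralizer ({z} : Set G)) →* ↥(quadIso qw)} {a : G}

theorem Act.ext2_fixQ (h : Act z Q π M a) : CfsgLib.ExtraTwo.Ext2 ↥h.fixQ ⟨z, h.z_fix⟩ := by
  refine ⟨fun e => h.es.ne (congrArg Subtype.val e), fun x => ⟨fun hx => ?_, ?_⟩, fun x => ?_⟩
  · -- commutators with the core are constant on orbits of the element
    have hc : ∀ y ∈ Q, (x : G) * y = y * x := by
      intro y hy
      set b := a * y * a⁻¹
      set c := a * b * a⁻¹
      have hb : b ∈ Q := h.es.nor a h.az y hy
      have hcQ : c ∈ Q := h.es.nor a h.az b hb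
      have hp : y * b * c ∈ h.fixQ := by
        refine (h.fix_iff (mul_mem (mul_mem hy hb) hcQ)).mp ?_
        rw [h.π_mul _ (mul_mem hy hb) _ hcQ, h.π_mul _ hy _ hb,
          show π b = h.al (π y) from h.M_act h.aC y hy,
          show π c = h.al (h.al (π y)) by
            rw [show π c = h.al (π b) from h.M_act h.aC b hb, show π b = h.al (π y) from h.M_act h.aC y hy]]
        exact h.al_eW (π y)
      have hxp : (x : G) * (y * b * c) = y * b * c * x :=
        (congrArg Subtype.val (Subgroup.mem_center_iff.mp hx ⟨_, hp⟩)).symm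
      rcases h.commutator_mem x.2.1 hy with e | e
      · exact e
      · exfalso
        have hxa : a * x * a⁻¹ = (x : G) := by
          rw [← (h.mem_fixQ.mp x.2).2, mul_inv_cancel_right]
        have hza : a * z * a⁻¹ = z := by rw [h.az, mul_inv_cancel_right]
        have step : ∀ w : G, (x : G) * w = z * (w * x) → (x : G) * (a * w * a⁻¹) = z * (a * w * a⁻¹ * x) := by
          intro w ew
          have := congrArg (fun u => a * u * a⁻¹) ew
          calc (x : G) * (a * w * a⁻¹) = a * x * a⁻¹ * (a * w * a⁻¹) := by rw [hxa]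
            _ = a * (x * w) * a⁻¹ := by group
            _ = a * (z * (w * x)) * a⁻¹ := this
            _ = a * z * a⁻¹ * (a * w * a⁻¹) * (a * x * a⁻¹) := by group
            _ = z * (a * w * a⁻¹ * x) := by rw [hza, hxa]; group
        have e2 := step y e
        have e3 := step b e2
        have hyz : y * z = z * y := h.es.comm y hy
        have hbz : b * z = z * b := h.es.comm b hb
        change (x : G) * b = z * (b * x) at e2
        change (x : G) * c = z * (c * x) at e3
        clear_value c b
        have key : (x : G) * (y * b * c) = z * (y * b * c * x) := by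
          calc (x : G) * (y * b * c) = (x : G) * y * b * c := by group
            _ = z * y * ((x : G) * b) * c := by rw [e]; group
            _ = z * (y * z) * b * ((x : G) * c) := by rw [e2]; group
            _ = z * (z * y) * (b * z) * (c * x) := by rw [hyz, e3]; group
            _ = z * z * (y * z) * b * (c * x) := by rw [hbz]; group
            _ = z * (y * b * c * x) := by rw [h.es.zz, hyz]; group
        rw [hxp] at key
        exact h.es.ne (right_eq_mul.mp key)
    rcases h.es.cen _ hc with e | e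
    · exact Or.inl (Subtype.ext e)
    · exact Or.inr (Subtype.ext e)
  · rintro (rfl | rfl)
    · exact one_mem _
    · exact Subgroup.mem_center_iff.mpr fun y => Subtype.ext (h.es.comm _ y.2.1)
  · rcases h.es.sq _ x.2.1 with e | e
    · exact Or.inl (Subtype.ext e)
    · exact Or.inr (Subtype.ext e)

/-- An isometry of the model of minus type onto the fixed vectors. -/
structure Emb (h : Act z Q π M a) (j : V → W) : Prop where
  map_add : ∀ u v, j (u + v) = j u + j v
  fixed : ∀ v, h.al (j v) = j v
  surj : ∀ f, h.al f = f → ∃ v, j v = f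
  inj : Function.Injective j
  form : ∀ v, qw (j v) = qf v

theorem Act.exists_emb (h : Act z Q π M a) : ∃ j : V → W, Emb h j := by
  obtain ⟨e, he⟩ := CfsgLib.ExtraTwo.iso_of_invariants _ ↥h.fixQ ⟨z, h.z_fix⟩ (Grp 2 true) zG h.card_fixQ
    (card_eq.trans (by norm_num)) h.ext2_fixQ ext2 (by
      have := rootCount_eq (m := 2) (s := true)
      rw [h.rootCount_fixQ]
      norm_num at this
      omega)
  let r : V → ↥h.fixQ := fun v => e.symm ⟨minusCoord.symm v, 0⟩
  have hr : ∀ x : ↥h.fixQ, π (x : G) = π (r (minusCoord (e x).v) : G) := by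
    intro x
    have hc : ((e x).c = 0 ∨ (e x).c = 1) := F2_cases _
    simp only [r, AddEquiv.symm_apply_apply]
    rcases hc with hc | hc
    · have e1 : e x = ⟨(e x).v, 0⟩ := Grp.ext' rfl hc
      rw [← e1, e.symm_apply_apply]
    · have e1 : e x = zG * ⟨(e x).v, 0⟩ := Grp.ext' (by rw [mul_v]; exact (zero_add _).symm)
        (by rw [mul_c, hc]; simp [bil_zero_left, zG])
      have e2 : x = ⟨z, h.z_fix⟩ * e.symm ⟨(e x).v, 0⟩ := e.injective (by rw [map_mul, he, e.apply_symm_apply]; exact e1)
      conv_lhs => rw [e2]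
      rw [Subgroup.coe_mul, h.π_mul _ h.es.mem _ (e.symm _).2.1, h.π_z, zero_add]
  refine ⟨fun v => π (r v : G), fun u v => ?_, fun v => (h.fix_iff (r v).2.1).mpr (r v).2, fun f hf => ?_, ?_,
    fun v => ?_⟩
  · rw [← h.π_mul _ (r u).2.1 _ (r v).2.1, ← Subgroup.coe_mul]
    refine Eq.trans ?_ (hr (r u * r v)).symm
    simp only [r, map_mul, MulEquiv.apply_symm_apply, mul_v, map_add, AddEquiv.apply_symm_apply]
  · obtain ⟨x, hx, rfl⟩ := h.π_surj f
    exact ⟨_, (hr ⟨x, (h.fix_iff hx).mp hf⟩).symm⟩
  · intro u v huv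
    rcases h.π_eq (r u).2.1 (r v).2.1 huv with e1 | e1
    · have := congrArg (fun x => minusCoord (e x).v) (Subtype.ext e1 : r u = r v)
      simpa [r] using this
    · have e2 : r u = ⟨z, h.z_fix⟩ * r v := Subtype.ext e1
      have := congrArg (fun x => minusCoord (e x).v) e2
      simpa [r, he, mul_v, zG] using this
  · have h1 : (r v * r v = 1 ↔ qf v = 0) := by
      rw [← e.injective.eq_iff, map_mul, map_one, e.apply_symm_apply, (model_coord true 2 _ 1).1,
        ← minusCoord_form, AddEquiv.apply_symm_apply]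
      rfl
    have h2 : (r v * r v = 1 ↔ qw (π (r v : G)) = 0) := by
      rw [← h.sq _ (r v).2.1, Subtype.ext_iff]; rfl
    rcases F2_cases (qw (π (r v : G))) with hq | hq
    · rw [hq]; exact (h1.mp (h2.mpr hq)).symm
    · rcases F2_cases (qf v) with hv | hv
      · rw [h2.mp (h1.mpr hv)] at hq; exact absurd hq (by decide)
      · rw [hq, hv]

namespace Emb

variable {h : Act z Q π M a} {j : V → W} (J : Emb h j)
include J

theorem map_zero : j 0 = 0 := by
  have := J.map_add 0 0
  rwa [add_zero, left_eq_add] at this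

/-- The inverse. -/
noncomputable def back (_J : Emb h j) (f : W) : V := Function.invFun j f

theorem back_j (v : V) : J.back (j v) = v := Function.leftInverse_invFun J.inj v

theorem j_back {f : W} (hf : h.al f = f) : j (J.back f) = f := by
  obtain ⟨v, rfl⟩ := J.surj f hf
  rw [J.back_j]

theorem polar_j (u v : V) : polar qw (j u) (j v) = polar qf u v := by
  simp only [polar, ← J.map_add, J.form]

/-- Isometries commuting with the element, restricted to the fixed vectors. -/
noncomputable def res (g : ↥(quadIso qw)) (v : V) : V := J.back (g.1 (j v))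

theorem j_res {g : ↥(quadIso qw)} (hg : ∀ x, g.1 (h.al x) = h.al (g.1 x)) (v : V) :
    j (J.res g v) = g.1 (j v) := J.j_back (by rw [← hg, J.fixed])

/-- An isometry of the model, extended by the identity on the complement. -/
noncomputable def extFun (g : O6) (x : W) : W := x + h.eW x + j (g.1 (J.back (h.eW x)))

theorem eW_ext (g : O6) (x : W) : h.eW (J.extFun g x) = j (g.1 (J.back (h.eW x))) := by
  rw [extFun, h.eW_add, h.eW_rest, h.eW_fix (J.fixed _), zero_add]

theorem back_add {f f' : W} (hf : h.al f = f) (hf' : h.al f' = f') : J.back (f + f') = J.back f + J.back f' :=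
  J.inj (by rw [J.map_add, J.j_back hf, J.j_back hf', J.j_back (by rw [h.al_add, hf, hf'])])

theorem ext_mul (g g' : O6) (x : W) : J.extFun g (J.extFun g' x) = J.extFun (g * g') x := by
  have e := J.eW_ext g' x
  rw [extFun, e, J.back_j, extFun, extFun]
  show x + h.eW x + j (g'.1 (J.back (h.eW x))) + j (g'.1 (J.back (h.eW x))) + _ = _
  rw [add_assoc (x + h.eW x), add_self_W, add_zero]
  rfl

theorem ext_one (x : W) : J.extFun 1 x = x := by
  show x + h.eW x + j (J.back (h.eW x)) = x
  rw [J.j_back (h.al_eW x), add_assoc, add_self_W, add_zero]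

/-- The extension. -/
noncomputable def ext : O6 →* ↥(quadIso qw) where
  toFun g :=
    ⟨{ toFun := J.extFun g
       invFun := J.extFun g⁻¹
       map_add' := fun x y => by
        simp only [extFun, h.eW_add, J.back_add (h.al_eW x) (h.al_eW y), g.1.map_add, J.map_add]
        abel
       map_smul' := fun c x => by
        rcases F2_cases c with rfl | rfl
        · have h0 : h.eW 0 = 0 := h.eW_fix h.al_zero
          have hb : J.back 0 = 0 := J.inj (by rw [J.j_back h.al_zero, J.map_zero])
          simp [extFun, h0, hb, J.map_zero]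
        · simp
       left_inv := fun x => by rw [J.ext_mul, inv_mul_cancel, J.ext_one]
       right_inv := fun x => by rw [J.ext_mul, mul_inv_cancel, J.ext_one] },
      fun x => by
        show qw (J.extFun g x) = qw x
        conv_rhs => rw [← h.eW_split x, h.q_sum (h.al_eW x) (h.eW_rest x)]
        rw [extFun, add_comm, h.q_sum (J.fixed _) (h.eW_rest x), J.form, show qf (g.1 (J.back (h.eW x))) = _ from g.2 _,
          ← J.form, J.j_back (h.al_eW x)]⟩
  map_one' := Subtype.ext (LinearEquiv.ext J.ext_one)
  map_mul' g g' := Subtype.ext (LinearEquiv.ext fun x => (J.ext_mul g g' x).symm)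

theorem ext_comm (g : O6) (x : W) : (J.ext g).1 (h.al x) = h.al ((J.ext g).1 x) := by
  show J.extFun g (h.al x) = h.al (J.extFun g x)
  rw [extFun, extFun, h.eW_al, h.al_add, h.al_add, J.fixed, h.al_eW]

theorem ext_j (g : O6) (v : V) : (J.ext g).1 (j v) = j (g.1 v) := by
  show J.extFun g (j v) = _
  rw [extFun, h.eW_fix (J.fixed v), add_self_W, zero_add, J.back_j]

theorem ext_refl {v : V} (hv : qf v ≠ 0) :
    J.ext (refl qf hv) = refl qw (v := j v) (by rwa [J.form]) := by
  refine Subtype.ext (LinearEquiv.ext fun x => ?_)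
  show J.extFun (refl qf hv) x = _
  rw [refl_app, extFun, refl_apply, (F2_cases (qf v)).resolve_left hv, inv_one, one_mul, ZMod.neg_eq_self_mod_two,
    J.map_add, J.j_back (h.al_eW x), ← h.polar_eW (J.fixed v) x]
  conv_rhs => rw [← J.j_back (h.al_eW x), J.polar_j]
  rcases F2_cases (polar qf v (J.back (h.eW x))) with e | e
  · rw [e, zero_smul, zero_smul, J.map_zero, add_zero, add_zero, add_assoc, add_self_W, add_zero]
  · rw [e, one_smul, one_smul, ← add_assoc, add_assoc x, add_self_W, add_zero]

end Emb

/-- The elements of the centraliser commuting with the element. -/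
def Act.cent (_h : Act z Q π M a) : Subgroup ↥(Subgroup.centralizer ({z} : Set G)) :=
  (Subgroup.centralizer {a}).subgroupOf _

theorem Act.mem_cent (h : Act z Q π M a) {c : ↥(Subgroup.centralizer ({z} : Set G))} :
    c ∈ h.cent ↔ (c : G) * a = a * c := by
  rw [Act.cent, Subgroup.mem_subgroupOf, Subgroup.mem_centralizer_singleton_iff]

theorem Act.cent_comm (h : Act z Q π M a) {c : ↥(Subgroup.centralizer ({z} : Set G))} (hc : c ∈ h.cent) (x : W) :
    (M c).1 (h.al x) = h.al ((M c).1 x) := by
  show (M c * M h.aC : ↥(quadIso qw)).1 x = (M h.aC * M c : ↥(quadIso qw)).1 x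
  rw [← map_mul, ← map_mul, show c * h.aC = h.aC * c from Subtype.ext (h.mem_cent.mp hc)]

/-- An element acting as an isometry commuting with the element can be corrected to commute with it. -/
theorem Act.exists_cent (h : Act z Q π M a) {c : ↥(Subgroup.centralizer ({z} : Set G))}
    (hc : ∀ x, (M c).1 (h.al x) = h.al ((M c).1 x)) : ∃ c' ∈ h.cent, M c' = M c := by
  have hker : M (c * h.aC * c⁻¹ * h.aC⁻¹) = 1 := by
    rw [map_mul, map_mul, map_mul, map_inv, map_inv,
      show M c * M h.aC = M h.aC * M c from Subtype.ext (LinearEquiv.ext hc)]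
    group
  set u : G := (c : G) * a * (c : G)⁻¹ * a⁻¹ with hu
  have huQ : u ∈ Q := (h.M_ker _).mp hker
  set b := u * a with hb
  have hb3 : b * b * b = 1 := by
    rw [show b = (c : G) * a * (c : G)⁻¹ by rw [hb, hu]; group]
    calc (c : G) * a * (c : G)⁻¹ * ((c : G) * a * (c : G)⁻¹) * ((c : G) * a * (c : G)⁻¹)
        = c * (a * a * a) * (c : G)⁻¹ := by group
      _ = 1 := by rw [h.cube]; group
  set u1 := a * u * a⁻¹
  set u2 := a * u1 * a⁻¹
  have hu1 : u1 ∈ Q := h.es.nor a h.az u huQ
  have hu2 : u2 ∈ Q := h.es.nor a h.az u1 hu1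
  have hprod : u * u1 * u2 = 1 := by
    calc u * u1 * u2 = u * u1 * u2 * (a * a * a) := by rw [h.cube, mul_one]
      _ = b * b * b := by simp only [hb, u1, u2]; group
      _ = 1 := hb3
  have hp : h.eW (π u) = 0 := by
    have e := congrArg π hprod
    rw [h.π_mul _ (mul_mem huQ hu1) _ hu2, h.π_mul _ huQ _ hu1, h.π_one,
      show π u2 = h.al (π u1) from h.M_act h.aC u1 hu1, show π u1 = h.al (π u) from h.M_act h.aC u huQ] at e
    exact e
  obtain ⟨q, hq, hqπ⟩ := h.π_surj (h.al (π u))
  set v := q * a * q⁻¹ * a⁻¹ with hv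
  have hvQ : v ∈ Q := by
    rw [show v = q * (a * q⁻¹ * a⁻¹) by rw [hv]; group]
    exact mul_mem hq (h.es.nor a h.az _ (inv_mem hq))
  have hvπ : π v = π u := by
    rw [show v = q * (a * q⁻¹ * a⁻¹) by rw [hv]; group, h.π_mul q hq _ (h.es.nor a h.az _ (inv_mem hq)),
      show π (a * q⁻¹ * a⁻¹) = h.al (π q⁻¹) from h.M_act h.aC _ (inv_mem hq), h.π_inv hq, hqπ]
    rw [h.perp_rel hp, add_left_comm, add_self_W, add_zero]
  have hva : v * a = q * a * q⁻¹ := by rw [hv]; group
  have hv3 : (v * a) * (v * a) * (v * a) = 1 := by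
    rw [hva]
    calc q * a * q⁻¹ * (q * a * q⁻¹) * (q * a * q⁻¹) = q * (a * a * a) * q⁻¹ := by group
      _ = 1 := by rw [h.cube]; group
  have huv : v = u := by
    rcases h.π_eq hvQ huQ hvπ with e | e
    · exact e
    · exfalso
      refine h.es.ne ?_
      have hbz : z * b = b * z := by
        calc z * b = z * u * a := (mul_assoc z u a).symm
          _ = u * z * a := by rw [h.es.comm u huQ]
          _ = u * (a * z) := by rw [mul_assoc, h.az]
          _ = b * z := (mul_assoc u a z).symm
      have h1 : v * a = z * b := by rw [e, hb, mul_assoc]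
      rw [h1] at hv3
      calc z = z * (z * z) * (b * b * b) := by rw [h.es.zz, hb3]; group
        _ = z * b * (z * b) * (z * b) := by
          have c1 : Commute z b := hbz
          simp only [mul_assoc]
          rw [← mul_assoc b z, ← c1.eq, mul_assoc z b, ← mul_assoc z z (b * _), ← mul_assoc b z, ← c1.eq]
          simp only [mul_assoc]
          rw [c1.left_comm]
        _ = 1 := hv3
  refine ⟨⟨q, Subgroup.mem_centralizer_singleton_iff.mpr (h.es.comm q hq)⟩⁻¹ * c, h.mem_cent.mpr ?_, ?_⟩
  · show q⁻¹ * (c : G) * a = a * (q⁻¹ * c)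
    have e : (c : G) * a * (c : G)⁻¹ = q * a * q⁻¹ := by rw [← hva, huv, hu]; group
    calc q⁻¹ * (c : G) * a = q⁻¹ * ((c : G) * a * (c : G)⁻¹) * c := by group
      _ = a * (q⁻¹ * c) := by rw [e]; group
  · rw [map_mul, map_inv, (h.M_ker _).mpr hq]
    group

/-- The action on the fixed part. -/
theorem Act.exists_restriction (h : Act z Q π M a) : ∃ T : ↥h.cent →* O6, T.range = Om ∧
    ∀ c, T c = 1 ↔ ∃ i : ℕ, ∃ q ∈ h.fixQ, ((c : ↥(Subgroup.centralizer ({z} : Set G))) : G) = a ^ i * q := by
  obtain ⟨j, J⟩ := h.exists_emb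
  have hadd : ∀ (c : ↥h.cent) u v, J.res (M c) (u + v) = J.res (M c) u + J.res (M c) v := fun c u v =>
    J.inj (by rw [J.map_add, J.j_res (h.cent_comm c.2), J.j_res (h.cent_comm c.2), J.j_res (h.cent_comm c.2),
      J.map_add, _root_.map_add])
  have hmul : ∀ (c d : ↥h.cent) v, J.res (M c) (J.res (M d) v) = J.res (M ↑(c * d)) v := fun c d v =>
    J.inj (by
      rw [J.j_res (h.cent_comm c.2), J.j_res (h.cent_comm d.2), J.j_res (h.cent_comm (c * d).2),
        Subgroup.coe_mul, map_mul]
      rfl)
  have hone : ∀ v, J.res (M ↑(1 : ↥h.cent)) v = v := fun v =>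
    J.inj (by rw [J.j_res (h.cent_comm (1 : ↥h.cent).2), OneMemClass.coe_one, map_one]; rfl)
  let T : ↥h.cent →* O6 :=
    { toFun := fun c =>
        ⟨{ toFun := J.res (M c)
           invFun := J.res (M ↑c⁻¹)
           map_add' := hadd c
           map_smul' := fun t v => by
            rcases F2_cases t with rfl | rfl
            · have e := hadd c 0 0
              simp only [zero_smul, RingHom.id_apply]
              rwa [add_zero, left_eq_add] at e
            · simp
           left_inv := fun v => by rw [hmul, inv_mul_cancel, hone]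
           right_inv := fun v => by rw [hmul, mul_inv_cancel, hone] },
          fun v => by
            show qf (J.res (M c) v) = qf v
            rw [← J.form, J.j_res (h.cent_comm c.2), ← J.form v]
            exact (M c).2 (j v)⟩
      map_one' := Subtype.ext (LinearEquiv.ext hone)
      map_mul' := fun c d => Subtype.ext (LinearEquiv.ext fun v => (hmul c d v).symm) }
  have hT : ∀ (c : ↥h.cent) v, j ((T c).1 v) = (M c).1 (j v) := fun c v => J.j_res (h.cent_comm c.2) v
  have hTeq : ∀ (c : ↥h.cent) (g : O6), (∀ v, (M c).1 (j v) = j (g.1 v)) → T c = g := fun c g e =>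
    Subtype.ext (LinearEquiv.ext fun v => J.inj (by rw [hT, e]))
  have : Finite O6 := CfsgLib.SuzType.finite_O6
  have hle : Om ≤ T.range := by
    intro g hg
    have hm : J.ext g ∈ commutator ↥(quadIso qw) := by
      have h1 : J.ext g ∈ (commutator O6).map J.ext := ⟨g, hg, rfl⟩
      rw [commutator_def, Subgroup.map_commutator] at h1
      exact Subgroup.commutator_mono le_top le_top h1
    rw [← h.range] at hm
    obtain ⟨c, hc⟩ := hm
    obtain ⟨c', hc', e⟩ := h.exists_cent (c := c) (fun x => by rw [hc]; exact J.ext_comm g x)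
    exact ⟨⟨c', hc'⟩, hTeq _ g fun v => by rw [e, hc, J.ext_j]⟩
  have hne : T.range ≠ ⊤ := by
    intro htop
    obtain ⟨v, hv⟩ : ∃ v : V, qf v ≠ 0 := ⟨fun i => if i = .inr 0 then 1 else 0, by decide +kernel⟩
    obtain ⟨c, hc⟩ : refl qf hv ∈ T.range := htop ▸ Subgroup.mem_top _
    have hv' : qw (j v) ≠ 0 := by rwa [J.form]
    obtain ⟨i, hi⟩ := h.eq_pow (g := (J.ext (refl qf hv))⁻¹ * M c) (fun x => by
        show ((J.ext (refl qf hv))⁻¹).1 ((M c).1 (h.al x)) = h.al (((J.ext (refl qf hv))⁻¹).1 ((M c).1 x))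
        rw [h.cent_comm c.2, ← map_inv, J.ext_comm]) (fun f hf => by
        obtain ⟨w, rfl⟩ := J.surj f hf
        show ((J.ext (refl qf hv))⁻¹).1 ((M c).1 (j w)) = j w
        rw [← hT, ← map_inv, J.ext_j, hc, refl_inv]
        exact congrArg j (congrArg (fun g : O6 => g.1 w) (refl_mul_self qf hv)))
    refine refl_notMem (index_comm8) hv' ?_
    rw [← J.ext_refl hv, ← h.range]
    refine ⟨(c : ↥(Subgroup.centralizer ({z} : Set G))) * (h.aC ^ i)⁻¹, ?_⟩
    rw [map_mul, map_inv, ← hi]
    group
  refine ⟨T, ?_, fun c => ⟨fun e => ?_, ?_⟩⟩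
  · refine le_antisymm ?_ hle
    by_contra hnle
    refine hne ?_
    have hi := Subgroup.relIndex_mul_index hle
    rw [CfsgLib.SuzType.index_Om] at hi
    have hr : Om.relIndex T.range ≠ 1 := fun e => hnle (Subgroup.relIndex_eq_one.mp e)
    rw [← Subgroup.index_eq_one]
    have h0 : T.range.index ≠ 0 := Subgroup.index_ne_zero_of_finite
    have : T.range.index ∣ 2 := ⟨_, hi.symm.trans (mul_comm _ _)⟩
    have := Nat.le_of_dvd (by norm_num) this
    interval_cases hh : T.range.index
    · exact absurd rfl h0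
    · rfl
    · omega
  · obtain ⟨i, hi⟩ := h.eq_pow (g := M c) (h.cent_comm c.2) (fun f hf => by
      obtain ⟨w, rfl⟩ := J.surj f hf
      rw [← hT, e]; rfl)
    have hq : ((h.aC ^ i)⁻¹ * (c : ↥(Subgroup.centralizer ({z} : Set G))) : G) ∈ Q := by
      refine (h.M_ker ((h.aC ^ i)⁻¹ * c)).mp ?_
      rw [map_mul, map_inv, hi, inv_mul_cancel]
    have hc' : ((h.aC ^ i : ↥(Subgroup.centralizer ({z} : Set G))) : G) = a ^ i := by
      rw [SubmonoidClass.coe_pow]; rfl
    refine ⟨i, _, h.mem_fixQ.mpr ⟨hq, ?_⟩, by rw [Subgroup.coe_inv, hc', mul_inv_cancel_left]⟩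
    rw [Subgroup.coe_inv, hc']
    have hca := h.mem_cent.mp c.2
    rw [mul_assoc, hca, ← mul_assoc, ← mul_assoc, (Commute.self_pow a i).symm.inv_left.eq]
  · rintro ⟨i, q, hq, e⟩
    refine hTeq c 1 fun v => ?_
    have hfix : (M h.aC).1 (j v) = j v := J.fixed v
    rw [show (c : ↥(Subgroup.centralizer ({z} : Set G))) = h.aC ^ i *
      ⟨q, Subgroup.mem_centralizer_singleton_iff.mpr (h.es.comm q hq.1)⟩ from Subtype.ext (by
        rw [e, Subgroup.coe_mul, SubmonoidClass.coe_pow]; rfl), map_mul, map_pow]
    rw [(h.M_ker ⟨q, _⟩).mpr hq.1, mul_one]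
    show ((M h.aC) ^ i).1 (j v) = j v
    clear e
    induction i with
    | zero => rfl
    | succ k ih => rw [pow_succ]; show ((M h.aC) ^ k).1 ((M h.aC).1 (j v)) = j v; rw [hfix, ih]

end CfsgSuzLeech
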