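/-
The centraliser of the element of order three modulo that element satisfies the large extraspecial hypothesis of
minus type in dimension six.
-/
import Cfsg.Agent.Lib.SuzLeech.Restrict
import Cfsg.Agent.Lib.OmegaCenter
import Cfsg.Agent.Lib.Comp.Layer
import Cfsg.Agent.Lib.Basic

set_option autoImplicit false
set_option linter.unusedSectionVars false

namespace CfsgSuzLeech

open QuadraticMap CfsgLib.WittExtension CfsgLargeExtra
open CfsgLib.SuzType (F2 F2_cases V qf O6 Om)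
open scoped commutatorElement

/-- The derived group in six dimensions has no nontrivial normal two-subgroup. -/
theorem Om_two_free (P : Subgroup ↥Om) [P.Normal] (hP : IsPGroup 2 ↥P) : P = ⊥ := by
  have : Finite O6 := CfsgLib.SuzType.finite_O6
  have hn6 : 5 ≤ Module.finrank F2 V := by rw [CfsgLib.SuzType.finrank_V]; norm_num
  have hcen : ∀ x ∈ Subgroup.center ↥Om, x = 1 := by
    intro x hx
    obtain ⟨s, hs, hsx⟩ := CfsgLib.OmegaCenter.central_scalar qf CfsgLib.SuzType.qf_nondeg hn6 x.1 fun g k =>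
      (congrArg Subtype.val (Subgroup.mem_center_iff.mp hx ⟨⁅g, k⁆,
        Subgroup.commutator_mem_commutator (Subgroup.mem_top g) (Subgroup.mem_top k)⟩)).symm
    refine Subtype.ext (Subtype.ext (LinearEquiv.ext fun v => ?_))
    rw [hsx, show s = 1 from (F2_cases s).resolve_left (fun e => by simp [e] at hs), one_smul]
    rfl
  have := CfsgLib.OmegaSimple.simple qf CfsgLib.SuzType.qf_nondeg hn6
  have hcl : Om = Subgroup.closure (CfsgLib.Eichler.Sieg qf) :=
    CfsgLib.OmegaSimple.commutator_eq qf CfsgLib.SuzType.qf_nondeg hn6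
  set N := Subgroup.closure (CfsgLib.Eichler.Sieg qf)
  let e : ↥Om ≃* ↥N := MulEquiv.subgroupCongr hcl
  have hPn : (P.map e.toMonoidHom).Normal := Subgroup.Normal.map inferInstance _ e.surjective
  have : ((P.map e.toMonoidHom).map (QuotientGroup.mk' (Subgroup.center ↥N))).Normal :=
    hPn.map _ (QuotientGroup.mk'_surjective _)
  have hZ : ∀ y ∈ Subgroup.center ↥N, y = 1 := by
    intro y hy
    have h1 : e.symm y ∈ Subgroup.center ↥Om := Subgroup.mem_center_iff.mpr fun k => e.injective (by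
      rw [map_mul, map_mul, e.apply_symm_apply]; exact Subgroup.mem_center_iff.mp hy _)
    rw [← e.apply_symm_apply y, hcen _ h1, map_one]
  rcases Subgroup.Normal.eq_bot_or_eq_top
    (H := (P.map e.toMonoidHom).map (QuotientGroup.mk' (Subgroup.center ↥N))) inferInstance with hb | ht
  · rw [eq_bot_iff]
    intro p hp
    have h1 : QuotientGroup.mk' (Subgroup.center ↥N) (e p) ∈ (⊥ : Subgroup (↥N ⧸ Subgroup.center ↥N)) :=
      hb ▸ ⟨_, ⟨p, hp, rfl⟩, rfl⟩
    rw [Subgroup.mem_bot, QuotientGroup.mk'_apply, QuotientGroup.eq_one_iff] at h1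
    exact Subgroup.mem_bot.mpr (e.injective ((hZ _ h1).trans (map_one e).symm))
  · exfalso
    have htop : P.map e.toMonoidHom = ⊤ := by
      rw [eq_top_iff]
      intro y _
      obtain ⟨u, hu, hue⟩ := (ht ▸ Subgroup.mem_top (QuotientGroup.mk' _ y) :
        QuotientGroup.mk' (Subgroup.center ↥N) y ∈ (P.map e.toMonoidHom).map (QuotientGroup.mk' _))
      rw [QuotientGroup.mk'_apply, QuotientGroup.mk'_apply, QuotientGroup.eq] at hue
      rw [← inv_mul_eq_one.mp (hZ _ hue)]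
      exact hu
    have hP' : P = ⊤ := Subgroup.map_injective (f := e.toMonoidHom) e.injective
      (by rw [htop, Subgroup.map_top_of_surjective _ e.surjective])
    obtain ⟨n, hn⟩ := hP.exists_card_eq
    rw [hP', Subgroup.card_top, CfsgLib.SuzType.card_Om] at hn
    have h3 : 3 ∣ 2 ^ n := hn ▸ (by norm_num)
    exact absurd (Nat.prime_three.dvd_of_dvd_pow h3) (by norm_num)

/-- The matrix form of the derived group. -/
theorem exists_omega_equiv :
    Nonempty (↥Om ≃* ↥(Cfsg.Omega (ZMod 2) (Cfsg.quadFormMinus 2 (ZMod 2) 1 1))) := by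
  let e := CfsgLib.SpinorMatrix.isoEquiv qf
  have hmap : (Cfsg.Omega F2 ⇑qf).map e.toMonoidHom = Om := by
    rw [show Cfsg.Omega F2 ⇑qf = commutator _ from rfl, show Om = commutator O6 from rfl, commutator_def,
      commutator_def, Subgroup.map_commutator, Subgroup.map_top_of_surjective _ e.surjective]
  exact ⟨((e.subgroupMap (Cfsg.Omega F2 ⇑qf)).trans (MulEquiv.subgroupCongr hmap)).symm⟩

variable {G : Type*} [Group G] [Finite G] {z : G} {Q : Subgroup G} {π : G → W}
  {M : ↥(Subgroup.centralizer ({z} : Set G)) →* ↥(quadIso qw)} {a : G}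

/-- The cyclic subgroup inside its centraliser. -/
def gen3 (a : G) : Subgroup ↥(Subgroup.centralizer ({a} : Set G)) :=
  Subgroup.zpowers ⟨a, Subgroup.mem_centralizer_singleton_iff.mpr rfl⟩

theorem gen3_normal (a : G) : (gen3 a).Normal :=
  ⟨fun n hn g => by
    obtain ⟨k, rfl⟩ := Subgroup.mem_zpowers_iff.mp hn
    have hc : Commute g ⟨a, Subgroup.mem_centralizer_singleton_iff.mpr rfl⟩ :=
      Subtype.ext (Subgroup.mem_centralizer_singleton_iff.mp g.2)
    rw [(hc.zpow_right k).eq, mul_inv_cancel_right]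
    exact zpow_mem (Subgroup.mem_zpowers _) k⟩

theorem Act.mem_gen3 (h : Act z Q π M a) {x : ↥(Subgroup.centralizer ({a} : Set G))} :
    x ∈ gen3 a ↔ (x : G) = 1 ∨ (x : G) = a ∨ (x : G) = a * a := by
  constructor
  · intro hx
    obtain ⟨k, rfl⟩ := Subgroup.mem_zpowers_iff.mp hx
    have h3 : (a : G) ^ (3 : ℤ) = 1 := by
      show a ^ ((3 : ℕ) : ℤ) = 1
      rw [zpow_natCast, pow_succ, pow_two, h.cube]
    rw [Subgroup.coe_zpow]
    show a ^ k = 1 ∨ a ^ k = a ∨ a ^ k = a * a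
    obtain ⟨r, t, h1, h2, rfl⟩ : ∃ r t : ℤ, 0 ≤ r ∧ r < 3 ∧ r + 3 * t = k :=
      ⟨k % 3, k / 3, by omega, by omega, by omega⟩
    rw [zpow_add, zpow_mul, h3, one_zpow, mul_one]
    interval_cases r
    · exact Or.inl (zpow_zero a)
    · exact Or.inr (Or.inl (zpow_one a))
    · exact Or.inr (Or.inr (zpow_two a))
  · rintro (e | e | e)
    · rw [show x = 1 from Subtype.ext e]; exact one_mem _
    · rw [show x = ⟨a, Subgroup.mem_centralizer_singleton_iff.mpr rfl⟩ from Subtype.ext e]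
      exact Subgroup.mem_zpowers _
    · rw [show x = ⟨a, Subgroup.mem_centralizer_singleton_iff.mpr rfl⟩ * ⟨a, Subgroup.mem_centralizer_singleton_iff.mpr rfl⟩
        from Subtype.ext e]
      exact mul_mem (Subgroup.mem_zpowers _) (Subgroup.mem_zpowers _)

theorem Act.gen3_inter (h : Act z Q π M a) {x : ↥(Subgroup.centralizer ({a} : Set G))} (hx : x ∈ gen3 a)
    (hQ : (x : G) ∈ Q) : x = 1 := by
  rcases h.mem_gen3.mp hx with e | e | e
  · exact Subtype.ext e
  · exact absurd (e ▸ hQ) h.not_mem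
  · refine absurd ?_ h.not_mem
    have h2 := mul_mem (e ▸ hQ : a * a ∈ Q) (e ▸ hQ : a * a ∈ Q)
    rwa [show a * a * (a * a) = a * a * a * a by group, h.cube, one_mul] at h2

set_option maxHeartbeats 800000 in
theorem Act.quot_hyp (h : Act z Q π M a) [(gen3 a).Normal]
    (hmove : ∃ f : G, f * a = a * f ∧ f * z * f⁻¹ ∈ Q ∧ f * z * f⁻¹ ≠ z) :
    ∃ zb : ↥(Subgroup.centralizer ({a} : Set G)) ⧸ gen3 a, orderOf zb = 2 ∧
      ∃ (Qs : Subgroup (Subgroup.centralizer ({zb} : Set (↥(Subgroup.centralizer ({a} : Set G)) ⧸ gen3 a))))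
        (_ : Qs.Normal),
        Cfsg.generalizedFittingSubgroup
          (Subgroup.centralizer ({zb} : Set (↥(Subgroup.centralizer ({a} : Set G)) ⧸ gen3 a))) = Qs ∧
        Cfsg.IsExtraspecial 2 Qs ∧ Nat.card Qs = 2 ^ 7 ∧
        Nonempty ((Subgroup.centralizer ({zb} : Set (↥(Subgroup.centralizer ({a} : Set G)) ⧸ gen3 a))) ⧸ Qs ≃*
          Cfsg.Omega (ZMod 2) (Cfsg.quadFormMinus 2 (ZMod 2) 1 1)) ∧
        ∃ g : ↥(Subgroup.centralizer ({a} : Set G)) ⧸ gen3 a,
          (∃ hq : g * zb * g⁻¹ ∈ Subgroup.centralizer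
              ({zb} : Set (↥(Subgroup.centralizer ({a} : Set G)) ⧸ gen3 a)),
            (⟨g * zb * g⁻¹, hq⟩ : Subgroup.centralizer
              ({zb} : Set (↥(Subgroup.centralizer ({a} : Set G)) ⧸ gen3 a))) ∈ Qs) ∧ g * zb * g⁻¹ ≠ zb := by
  classical
  obtain ⟨T, hTr, hTk⟩ := h.exists_restriction
  set Ca := Subgroup.centralizer ({a} : Set G) with hCa
  set zC : ↥Ca := ⟨z, Subgroup.mem_centralizer_singleton_iff.mpr h.az.symm⟩ with hzC
  set zb : ↥Ca ⧸ gen3 a := QuotientGroup.mk zC with hzb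
  set Cb := Subgroup.centralizer ({zb} : Set (↥Ca ⧸ gen3 a))
  have hsame : ∀ x y : ↥Ca, (QuotientGroup.mk x : ↥Ca ⧸ gen3 a) = QuotientGroup.mk y → (x : G) ∈ Q → (y : G) ∈ Q →
      x = y := fun x y e hx hy => by
    rw [QuotientGroup.eq] at e
    exact inv_mul_eq_one.mp (h.gen3_inter e (mul_mem (inv_mem hx) hy))
  have hzb1 : zb ≠ 1 := fun e => h.es.ne (congrArg Subtype.val (hsame zC 1 e h.es.mem (one_mem _)))
  have hzbzb : zb * zb = 1 := by
    rw [hzb, ← QuotientGroup.mk_mul, show zC * zC = 1 from Subtype.ext h.es.zz, QuotientGroup.mk_one]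
  -- the preimage of the centraliser of the image
  have hcen : ∀ x : ↥Ca, (QuotientGroup.mk x : ↥Ca ⧸ gen3 a) * zb = zb * QuotientGroup.mk x ↔
      (x : G) * z = z * x := by
    intro x
    constructor
    · intro e
      rw [hzb, ← QuotientGroup.mk_mul, ← QuotientGroup.mk_mul, QuotientGroup.eq] at e
      set w := (x * zC)⁻¹ * (zC * x) with hw
      have hwx : (zC * x : ↥Ca) = x * zC * w := by rw [hw, mul_inv_cancel_left]
      have hwc : (w : G) * z = z * w := by
        rcases h.mem_gen3.mp e with r | r | r <;> rw [r]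
        · rw [one_mul, mul_one]
        · exact h.az
        · rw [mul_assoc, h.az, ← mul_assoc, h.az, mul_assoc]
      have hw2 : (w : G) * w = 1 := by
        have e1 : z * (x : G) = x * z * w := congrArg Subtype.val hwx
        calc (w : G) * w = z * z * (w * w) := by rw [h.es.zz, one_mul]
          _ = z * (w * z) * w := by rw [hwc]; group
          _ = z * w * z * w := by group
          _ = (x : G)⁻¹ * (x * z * w) * z * w := by group
          _ = (x : G)⁻¹ * z * (x * z * w) := by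
            conv_lhs => rw [← e1]
            group
          _ = (x : G)⁻¹ * (z * z) * x := by rw [← e1]; group
          _ = 1 := by rw [h.es.zz]; group
      have hw1 : (w : G) = 1 := by
        rcases h.mem_gen3.mp e with r | r | r
        · exact r
        · exfalso
          rw [r] at hw2
          have := h.cube
          rw [hw2, one_mul] at this
          exact h.ne this
        · exfalso
          rw [r] at hw2
          refine h.ne ?_
          calc a = a * a * a * a := by rw [h.cube, one_mul]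
            _ = 1 := by rw [← hw2]; group
      have e1 : z * (x : G) = x * z * w := congrArg Subtype.val hwx
      rw [hw1, mul_one] at e1
      exact e1.symm
    · intro e
      rw [hzb, ← QuotientGroup.mk_mul, ← QuotientGroup.mk_mul, show x * zC = zC * x from Subtype.ext e]
  let R : ↥h.cent →* ↥Cb :=
    { toFun := fun c => ⟨QuotientGroup.mk ⟨(c.1 : G), Subgroup.mem_centralizer_singleton_iff.mpr (h.mem_cent.mp c.2)⟩,
        Subgroup.mem_centralizer_singleton_iff.mpr ((hcen _).mpr (Subgroup.mem_centralizer_singleton_iff.mp c.1.2))⟩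
      map_one' := Subtype.ext (QuotientGroup.mk_one _)
      map_mul' := fun c d => Subtype.ext rfl }
  have hRs : Function.Surjective R := by
    rintro ⟨s, hs⟩
    obtain ⟨x, rfl⟩ := QuotientGroup.mk_surjective s
    have hx := (hcen x).mp (Subgroup.mem_centralizer_singleton_iff.mp hs)
    exact ⟨⟨⟨(x : G), Subgroup.mem_centralizer_singleton_iff.mpr hx⟩,
      h.mem_cent.mpr (Subgroup.mem_centralizer_singleton_iff.mp x.2)⟩, rfl⟩
  set Tc : ↥h.cent →* ↥Om := T.codRestrict Om fun c => by rw [← hTr]; exact ⟨c, rfl⟩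
  have hRk : R.ker ≤ Tc.ker := by
    intro c hc
    have h1 : (⟨(c.1 : G), Subgroup.mem_centralizer_singleton_iff.mpr (h.mem_cent.mp c.2)⟩ : ↥Ca) ∈ gen3 a :=
      (QuotientGroup.eq_one_iff _).mp (congrArg Subtype.val (MonoidHom.mem_ker.mp hc))
    refine MonoidHom.mem_ker.mpr (Subtype.ext ((hTk c).mpr ?_))
    rcases h.mem_gen3.mp h1 with e | e | e
    · exact ⟨0, 1, one_mem _, by rw [pow_zero, one_mul]; exact e⟩
    · exact ⟨1, 1, one_mem _, by rw [pow_one, mul_one]; exact e⟩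
    · exact ⟨2, 1, one_mem _, by rw [pow_two, mul_one]; exact e⟩
  let T' : ↥Cb →* ↥Om := R.liftOfSurjective hRs ⟨Tc, hRk⟩
  have hT' : ∀ c, (T' (R c) : O6) = T c := fun c => congrArg Subtype.val
    (MonoidHom.liftOfRightInverse_comp_apply R _ (Function.rightInverse_surjInv hRs) ⟨Tc, hRk⟩ c)
  have hT's : Function.Surjective T' := by
    rintro ⟨g, hg⟩
    obtain ⟨c, rfl⟩ : g ∈ T.range := hTr.symm ▸ hg
    exact ⟨R c, Subtype.ext (hT' c)⟩
  -- the kernel is the image of the fixed part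
  let inc : ↥h.fixQ →* ↥Cb :=
    { toFun := fun q => R ⟨⟨(q : G), Subgroup.mem_centralizer_singleton_iff.mpr (h.es.comm _ q.2.1)⟩,
        h.mem_cent.mpr (h.mem_fixQ.mp q.2).2⟩
      map_one' := map_one R
      map_mul' := fun p q => map_mul R ⟨⟨(p : G), _⟩, _⟩ ⟨⟨(q : G), _⟩, _⟩ }
  have hincinj : Function.Injective inc := fun p q e =>
    Subtype.ext (congrArg (fun w : ↥Ca => (w : G)) (hsame _ _ (congrArg Subtype.val e) p.2.1 q.2.1))
  have hker : T'.ker = inc.range := by
    ext s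
    obtain ⟨c, rfl⟩ := hRs s
    rw [MonoidHom.mem_ker]
    constructor
    · intro e
      obtain ⟨i, q, hq, hce⟩ := (hTk c).mp (by rw [← hT', e]; rfl)
      refine ⟨⟨q, hq⟩, Subtype.ext ?_⟩
      refine QuotientGroup.eq.mpr (?_ : _ ∈ gen3 a)
      have hx : ((⟨q, hq⟩ : ↥h.fixQ) : G)⁻¹ * (c.1 : G) = a ^ i := by
        rw [hce]
        have hc2 : Commute a q := (h.mem_fixQ.mp hq).2.symm
        rw [(hc2.pow_left i).eq, inv_mul_cancel_left]
      rw [gen3, Subgroup.mem_zpowers_iff]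
      exact ⟨i, Subtype.ext (by
        show ((⟨a, _⟩ : ↥Ca) ^ (i : ℤ) : ↥Ca).1 = q⁻¹ * (c.1 : G)
        rw [zpow_natCast, SubmonoidClass.coe_pow]
        exact hx.symm)⟩
    · rintro ⟨q, hq⟩
      rw [← hq]
      refine Subtype.ext (show (T' (R _) : O6) = 1 from ?_)
      rw [hT']
      exact (hTk _).mpr ⟨0, _, q.2, by rw [pow_zero, one_mul]⟩
  set Qs := T'.ker
  let e7 : ↥h.fixQ ≃* ↥Qs := (MonoidHom.ofInjective hincinj).trans (MulEquiv.subgroupCongr hker.symm)
  have hcard : Nat.card ↥Qs = 2 ^ 7 := by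
    rw [← Nat.card_congr e7.toEquiv, h.card_fixQ]; norm_num
  have hExt : CfsgLib.ExtraTwo.Ext2 ↥Qs (e7 ⟨z, h.z_fix⟩) := by
    have he := h.ext2_fixQ
    refine ⟨fun e => he.ne (e7.map_eq_one_iff.mp e), fun g => ?_, fun g => ?_⟩
    · obtain ⟨p, rfl⟩ := e7.surjective g
      rw [e7.map_eq_one_iff, e7.injective.eq_iff, ← he.center_iff, Subgroup.mem_center_iff, Subgroup.mem_center_iff]
      refine ⟨fun hh c => e7.injective (by rw [map_mul, map_mul]; exact hh _), fun hh d => ?_⟩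
      obtain ⟨c, rfl⟩ := e7.surjective d
      rw [← map_mul, ← map_mul, hh c]
    · obtain ⟨p, rfl⟩ := e7.surjective g
      rw [← map_mul, e7.map_eq_one_iff, e7.injective.eq_iff]
      exact he.sq p
  obtain ⟨x, hx, hpair, -⟩ := h.six
  have hexs : Cfsg.IsExtraspecial 2 ↥Qs := by
    refine isExtraspecial_of_ext2 hExt (a := e7 ⟨x 0, h.mem_fixQ.mpr (hx 0)⟩)
      (b := e7 ⟨x 1, h.mem_fixQ.mpr (hx 1)⟩) fun e => hpair 0 1 (by decide) (by decide) ?_
    rw [← map_mul, ← map_mul] at e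
    exact congrArg Subtype.val (e7.injective e)
  have hF : Cfsg.generalizedFittingSubgroup ↥Cb = Qs := by
    have : Fact (Nat.Prime 2) := ⟨Nat.prime_two⟩
    have hp : IsPGroup 2 ↥Qs := IsPGroup.of_card hcard
    have hle : Qs ≤ Cfsg.pCore 2 ↥Cb := le_sSup ⟨inferInstance, hp⟩
    have heq : Cfsg.pCore 2 ↥Cb = Qs := by
      refine le_antisymm ?_ hle
      have : (Cfsg.pCore 2 ↥Cb).Normal := Subgroup.sSup_normal _ (fun _ hh => hh.1)
      have : ((Cfsg.pCore 2 ↥Cb).map T').Normal := Subgroup.Normal.map inferInstance T' hT's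
      have hb := Om_two_free _ ((CfsgLib.isPGroup_pCore 2).map T')
      exact fun y hy => MonoidHom.mem_ker.mpr (Subgroup.mem_bot.mp (hb ▸ Subgroup.mem_map_of_mem T' hy))
    rw [← heq, CfsgLib.Comp.gfit_eq_pCore_iff, heq]
    intro y hy
    obtain ⟨c, rfl⟩ := hRs y
    refine MonoidHom.mem_ker.mpr (Subtype.ext ?_)
    rw [hT']
    show T c = 1
    have hfixall : ∀ q ∈ h.fixQ, (c.1 : G) * q * (c.1 : G)⁻¹ = q := by
      intro q hq
      have hm : inc ⟨q, hq⟩ ∈ Qs := by rw [hker]; exact ⟨_, rfl⟩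
      have e := congrArg Subtype.val (Subgroup.mem_centralizer_iff.mp hy _ hm)
      set cA : ↥Ca := ⟨(c.1 : G), Subgroup.mem_centralizer_singleton_iff.mpr (h.mem_cent.mp c.2)⟩
      set qA : ↥Ca := ⟨q, Subgroup.mem_centralizer_singleton_iff.mpr (h.mem_fixQ.mp hq).2⟩
      change (QuotientGroup.mk qA : ↥Ca ⧸ gen3 a) * QuotientGroup.mk cA =
        QuotientGroup.mk cA * QuotientGroup.mk qA at e
      have e2 : (QuotientGroup.mk (cA * qA * cA⁻¹) : ↥Ca ⧸ gen3 a) = QuotientGroup.mk qA := by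
        rw [QuotientGroup.mk_mul, QuotientGroup.mk_mul, QuotientGroup.mk_inv, ← e, mul_inv_cancel_right]
      exact congrArg Subtype.val (hsame _ _ e2 (h.es.nor _ (Subgroup.mem_centralizer_singleton_iff.mp c.1.2) _ hq.1)
        hq.1)
    obtain ⟨i, hi⟩ := h.eq_pow (g := M c.1) (h.cent_comm c.2) (fun f hf => by
      obtain ⟨q, hq, rfl⟩ := h.π_surj f
      rw [← h.M_act _ q hq, hfixall q ((h.fix_iff hq).mp hf)])
    refine (hTk c).mpr ⟨i, (a ^ i)⁻¹ * (c.1 : G), h.mem_fixQ.mpr ⟨?_, ?_⟩, by rw [mul_inv_cancel_left]⟩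
    · have : ((h.aC ^ i)⁻¹ * c.1 : ↥(Subgroup.centralizer ({z} : Set G))).1 ∈ Q :=
        (h.M_ker _).mp (by rw [map_mul, map_inv, hi, inv_mul_cancel])
      rw [Subgroup.coe_mul, Subgroup.coe_inv, SubmonoidClass.coe_pow] at this
      exact this
    · rw [mul_assoc, h.mem_cent.mp c.2, ← mul_assoc, ← mul_assoc, (Commute.self_pow a i).symm.inv_left.eq]
  obtain ⟨eOm⟩ := exists_omega_equiv
  refine ⟨zb, orderOf_eq_prime (by rw [pow_two]; exact hzbzb) hzb1, Qs, inferInstance, hF, hexs, hcard,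
    ⟨(QuotientGroup.quotientKerEquivOfSurjective T' hT's).trans eOm⟩, ?_⟩
  obtain ⟨f, hfa, hfQ, hfne⟩ := hmove
  set fC : ↥Ca := ⟨f, Subgroup.mem_centralizer_singleton_iff.mpr hfa⟩
  have hfix : f * z * f⁻¹ ∈ h.fixQ := by
    refine h.mem_fixQ.mpr ⟨hfQ, ?_⟩
    have h1 : Commute f a := hfa
    have h2 : Commute z a := h.az.symm
    exact ((h1.mul_left h2).mul_left h1.inv_left).eq
  have hval : (inc ⟨_, hfix⟩ : ↥Ca ⧸ gen3 a) = (fC : ↥Ca ⧸ gen3 a) * zb * (fC : ↥Ca ⧸ gen3 a)⁻¹ := by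
    rw [hzb, ← QuotientGroup.mk_inv, ← QuotientGroup.mk_mul, ← QuotientGroup.mk_mul]
    rfl
  refine ⟨(fC : ↥Ca ⧸ gen3 a), ⟨hval ▸ (inc ⟨_, hfix⟩).2, ?_⟩, fun e => hfne ?_⟩
  · rw [show ∀ hq, (⟨_, hq⟩ : ↥Cb) = inc ⟨_, hfix⟩ from fun hq => Subtype.ext hval.symm, hker]
    exact ⟨_, rfl⟩
  · rw [← hval] at e
    exact congrArg Subtype.val (hsame _ zC e hfQ h.es.mem)

end CfsgSuzLeech
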