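/-
The section of the automorphism group of the Leech lattice: the centraliser of a subgroup of order three modulo
that subgroup and the centre.
-/
import Cfsg.Agent.Lib.SuzLeech.Elem
import Cfsg.Agent.Lib.SuzLeech.Quot

set_option autoImplicit false

namespace CfsgSuzLeech

open Cfsg CfsgLeech CfsgGolay CfsgLeech.OctInv QuadraticMap CfsgLib.WittExtension CfsgLargeExtra
  CfsgLargeExtra.Types CfsgLib.ExtraTwo

attribute [local irreducible] codeL octadL dodecadL slpCodes

theorem exists_act : ∃ (π : Cfsg.Spor.Co1 → W) (M : ↥C1 →* ↥(quadIso qw)),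
    Act (G := Cfsg.Spor.Co1) z1 Qm π M (prj aL) := by
  classical
  have := co1_finite
  obtain ⟨x, hx, hpair, horth⟩ := exists_six
  have hF : (Cfsg.generalizedFittingSubgroup ↥C1).map C1.subtype = Qm := by rw [gfit_eq]; rfl
  set E : ↥Q1 ≃* ↥Qm := Subgroup.equivMapOfInjective Q1 _ (Subgroup.subtype_injective C1)
  have hQe : IsExtraspecial 2 ↥Qm := by
    have hw := Q_ext2
    refine isExtraspecial_of_ext2 (z := E zQ) (a := ⟨x 0, (hx 0).1⟩) (b := ⟨x 1, (hx 1).1⟩)
      ⟨fun e => hw.ne (E.map_eq_one_iff.mp e), fun g => ?_, fun g => ?_⟩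
      fun e => hpair 0 1 (by decide) (by decide) (congrArg Subtype.val e)
    · obtain ⟨p, rfl⟩ := E.surjective g
      rw [E.map_eq_one_iff, E.injective.eq_iff, ← hw.center_iff, Subgroup.mem_center_iff, Subgroup.mem_center_iff]
      refine ⟨fun hh c => E.injective (by rw [map_mul, map_mul]; exact hh _), fun hh d => ?_⟩
      obtain ⟨c, rfl⟩ := E.surjective d
      rw [← map_mul, ← map_mul, hh c]
    · obtain ⟨p, rfl⟩ := E.surjective g
      rw [← map_mul, E.map_eq_one_iff, E.injective.eq_iff]
      exact hw.sq p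
  have h : ES Qm z1 := (ES.of_fitting z1 z1_order rfl Qm hF hQe).1
  have hcard : Nat.card ↥Qm = 2 ^ (2 * (3 + 1) + 1) := by
    rw [Qm, Subgroup.card_map_of_injective (Subgroup.subtype_injective _), Q1_card]; norm_num
  have hroot : rootCount ↥Qm = rootCount (Grp 3 true) ∨ rootCount ↥Qm = rootCount (Grp 3 false) := by
    obtain ⟨n, hn, hcases⟩ := invariants _ ↥Qm ⟨z1, h.mem⟩ rfl h.toExt
    rw [hcard] at hn
    have hn4 : n = 4 := by
      have := Nat.pow_right_injective (le_refl 2) hn
      omega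
    subst hn4
    have ht := rootCount_eq (m := 3) (s := true)
    have hf := rootCount_eq (m := 3) (s := false)
    norm_num at ht hf
    rcases hcases with ⟨h1, -⟩ | ⟨-, h1, -⟩
    · right
      norm_num at h1
      omega
    · left
      norm_num at h1
      omega
  have hquot : Nat.card (↥C1 ⧸ Q1) = 174182400 := by
    rw [Nat.card_congr (QuotientGroup.quotientKerEquivOfSurjective phi1 phi1_surjective).toEquiv]
    exact (CfsgLib.StemSylow.OEight.card_omega (ZMod.card 2)).1
  have himg : ∀ {U : Type} [AddCommGroup U] [Module (ZMod 2) U] (q : QuadraticForm (ZMod 2) U)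
      (M : ↥C1 →* ↥(quadIso q)), (∀ c, M c = 1 ↔ (c : Cfsg.Spor.Co1) ∈ Qm) → Nat.card M.range = 174182400 := by
    intro U _ _ q M hM
    have hk : M.ker = Q1 := SetLike.ext fun c => MonoidHom.mem_ker.trans ((hM c).trans ⟨fun ⟨d, hd, e⟩ => by
      rwa [show d = c from Subtype.ext e] at hd, fun hc => mem_Qm hc⟩)
    rw [← Subgroup.index_ker, hk, Subgroup.index_eq_card, hquot]
  rcases hroot with hr | hr
  · exfalso
    obtain ⟨π, h1, h2, h3, h4, -, h6⟩ := CfsgLib.SuzType.exists_coord h qn coordN coordN_form hcard hr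
    obtain ⟨M, hM1, hM2⟩ := CfsgLib.SuzType.exists_action h hQe qn π h1 h2 h3 h4 h6
    have hR := himg qn M hM2
    have hdvd := Subgroup.card_subgroup_dvd_card M.range
    rw [hR, card_qn] at hdvd
    norm_num at hdvd
  · obtain ⟨π, h1, h2, h3, h4, -, h6⟩ := CfsgLib.SuzType.exists_coord h qw coordW coordW_form hcard hr
    obtain ⟨M, hM1, hM2⟩ := CfsgLib.SuzType.exists_action h hQe qw π h1 h2 h3 h4 h6
    have hR := himg qw M hM2
    have hrange : M.range = commutator ↥(quadIso qw) := by
      have hi : M.range.index = 2 := by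
        have := M.range.card_mul_index
        rw [hR, card_qw] at this
        omega
      have := Subgroup.normal_of_index_eq_two hi
      symm
      have : Finite ↥(quadIso qw) := Nat.finite_of_card_ne_zero (by rw [card_qw]; norm_num)
      refine Subgroup.eq_of_le_of_card_ge ?_ ?_
      · rw [← Subgroup.Normal.quotient_commutative_iff_commutator_le]
        have : Fact (Nat.Prime 2) := ⟨Nat.prime_two⟩
        have : IsCyclic (↥(quadIso qw) ⧸ M.range) :=
          isCyclic_of_prime_card (p := 2) (by rw [← Subgroup.index_eq_card, hi])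
        exact ⟨⟨fun a b => IsCyclic.commGroup.mul_comm a b⟩⟩
      · have e1 := (commutator ↥(quadIso qw)).card_mul_index
        rw [index_comm8, card_qw] at e1
        rw [hR]
        omega
    refine ⟨π, M, h, h1, h2, h3, h6, h4, hM1, hM2, hrange, ?_, ?_, ?_, x, hx, hpair, horth⟩
    · exact Subgroup.mem_centralizer_singleton_iff.mp (prj_mem.mpr aL_mem)
    · rw [← map_mul, ← map_mul, aL_cube, map_one]
    · intro e
      rcases prj_eq.mp ((map_one prj).trans e.symm) with r | r
      · exact aL_ne r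
      · rw [one_mul] at r
        have h3' := aL_cube
        rw [r, show negAut * negAut = 1 by rw [neg_sgn, sgn_mul, sgn_congr (symmDiff_self _) (hd := CW_empty)]; exact sgn_empty,
          one_mul] at h3'
        exact aL_ne (r.trans h3')

/-- The section. -/
theorem exists_section : ∃ A : Subgroup ↥Cfsg.Co0, Nat.card A = 3 ∧
    ∃ (_hn : ((A ⊔ Subgroup.center ↥Cfsg.Co0).subgroupOf (Subgroup.centralizer (A : Set ↥Cfsg.Co0))).Normal),
      ∃ (S : Type) (_ : Group S) (_ : Finite S),
        Nonempty (S ≃* ↥(Subgroup.centralizer (A : Set ↥Cfsg.Co0)) ⧸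
          (A ⊔ Subgroup.center ↥Cfsg.Co0).subgroupOf (Subgroup.centralizer (A : Set ↥Cfsg.Co0))) ∧
        ∃ z : S, orderOf z = 2 ∧ ∃ (Q : Subgroup (Subgroup.centralizer ({z} : Set S))) (_ : Q.Normal),
          Cfsg.generalizedFittingSubgroup (Subgroup.centralizer ({z} : Set S)) = Q ∧ Cfsg.IsExtraspecial 2 Q ∧
          Nat.card Q = 2 ^ 7 ∧ Nonempty ((Subgroup.centralizer ({z} : Set S)) ⧸ Q ≃*
            Cfsg.Omega (ZMod 2) (Cfsg.quadFormMinus 2 (ZMod 2) 1 1)) ∧
          ∃ g : S, (∃ hq : g * z * g⁻¹ ∈ Subgroup.centralizer ({z} : Set S),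
            (⟨g * z * g⁻¹, hq⟩ : Subgroup.centralizer ({z} : Set S)) ∈ Q) ∧ g * z * g⁻¹ ≠ z := by
  classical
  have := co1_finite
  obtain ⟨π, M, hA⟩ := exists_act
  set a := (prj aL : Cfsg.Spor.Co1)
  have hN := gen3_normal a
  set A : Subgroup ↥Cfsg.Co0 := Subgroup.zpowers aL with hAdef
  set CA := Subgroup.centralizer (A : Set ↥Cfsg.Co0)
  have h3 : orderOf aL = 3 :=
    haveI : Fact (Nat.Prime 3) := ⟨Nat.prime_three⟩
    orderOf_eq_prime (by rw [pow_succ, pow_two, aL_cube]) aL_ne
  have hneg : negAut * negAut = 1 := by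
    rw [neg_sgn, sgn_mul, sgn_congr (symmDiff_self _) (hd := CW_empty)]; exact sgn_empty
  have hmem : ∀ g : ↥Cfsg.Co0, g ∈ CA ↔ g * aL = aL * g := fun g => by
    refine ⟨fun hg => (Subgroup.mem_centralizer_iff.mp hg aL (Subgroup.mem_zpowers aL)).symm, fun hg => ?_⟩
    refine Subgroup.mem_centralizer_iff.mpr fun k hk => ?_
    obtain ⟨i, rfl⟩ := Subgroup.mem_zpowers_iff.mp hk
    exact ((show Commute g aL from hg).zpow_right i).eq.symm
  let toCa : ↥CA →* ↥(Subgroup.centralizer ({a} : Set Cfsg.Spor.Co1)) :=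
    (prj.comp CA.subtype).codRestrict _ fun g => Subgroup.mem_centralizer_singleton_iff.mpr (by
      show prj (g : ↥Cfsg.Co0) * prj aL = prj aL * prj g
      rw [← map_mul, ← map_mul, (hmem _).mp g.2])
  let Ψ := (QuotientGroup.mk' (gen3 a)).comp toCa
  have hsurj : Function.Surjective toCa := by
    rintro ⟨y, hy⟩
    obtain ⟨g, rfl⟩ := QuotientGroup.mk'_surjective _ y
    have e : prj (g * aL) = prj (aL * g) := by
      rw [map_mul, map_mul]; exact Subgroup.mem_centralizer_singleton_iff.mp hy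
    refine ⟨⟨g, (hmem g).mpr ?_⟩, rfl⟩
    rcases prj_eq.mp e with r | r
    · exact r.symm
    · exfalso
      have hc : Commute aL negAut := (Subgroup.mem_center_iff.mp negAut_central aL : _)
      have hconj : g⁻¹ * aL * g = aL * negAut := by
        rw [mul_assoc, r, ← mul_assoc, ← mul_assoc, inv_mul_cancel, one_mul]
      have e3 : (aL * negAut) * (aL * negAut) * (aL * negAut) = 1 := by
        rw [← hconj]
        calc g⁻¹ * aL * g * (g⁻¹ * aL * g) * (g⁻¹ * aL * g) = g⁻¹ * (aL * aL * aL) * g := by group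
          _ = 1 := by rw [aL_cube]; group
      refine negAut_ne_one ?_
      calc negAut = (aL * aL * aL) * ((negAut * negAut) * negAut) := by rw [aL_cube, hneg]; simp
        _ = (aL * negAut) * (aL * negAut) * (aL * negAut) := by
          have c1 : Commute negAut aL := hc.symm
          simp only [mul_assoc]
          rw [c1.left_comm, c1.left_comm, c1.left_comm]
        _ = 1 := e3
  have hker : Ψ.ker = (A ⊔ Subgroup.center ↥Cfsg.Co0).subgroupOf CA := by
    ext g
    rw [MonoidHom.mem_ker, Subgroup.mem_subgroupOf]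
    show (QuotientGroup.mk (toCa g) : _ ⧸ gen3 a) = 1 ↔ _
    rw [QuotientGroup.eq_one_iff, hA.mem_gen3]
    constructor
    · intro hg
      have key : ∀ b : ↥Cfsg.Co0, b ∈ A → prj (g : ↥Cfsg.Co0) = prj b →
          (g : ↥Cfsg.Co0) ∈ A ⊔ Subgroup.center ↥Cfsg.Co0 := by
        intro b hb e
        rcases prj_eq.mp e.symm with r | r <;> rw [r]
        · exact Subgroup.mem_sup_left hb
        · exact mul_mem (Subgroup.mem_sup_left hb) (Subgroup.mem_sup_right negAut_central)
      rcases hg with e | e | e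
      · exact key 1 (one_mem _) (e.trans (map_one _).symm)
      · exact key aL (Subgroup.mem_zpowers _) e
      · exact key (aL * aL) (mul_mem (Subgroup.mem_zpowers _) (Subgroup.mem_zpowers _)) (e.trans (map_mul _ _ _).symm)
    · intro hg
      rw [← hA.mem_gen3]
      obtain ⟨b, hb, c, hc, e⟩ := (Subgroup.mem_sup_of_normal_right).mp hg
      obtain ⟨i, rfl⟩ := Subgroup.mem_zpowers_iff.mp hb
      have e2 : toCa g = ⟨a, Subgroup.mem_centralizer_singleton_iff.mpr rfl⟩ ^ i := by
        refine Subtype.ext ?_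
        rw [Subgroup.coe_zpow]
        show prj (g : ↥Cfsg.Co0) = prj aL ^ i
        rw [← e, map_mul, map_zpow, show prj c = 1 from (QuotientGroup.eq_one_iff c).mpr hc, mul_one]
      rw [e2]
      exact zpow_mem (Subgroup.mem_zpowers _) i
  have hn : ((A ⊔ Subgroup.center ↥Cfsg.Co0).subgroupOf CA).Normal := hker ▸ MonoidHom.normal_ker _
  refine ⟨A, by rw [hAdef, Nat.card_zpowers, h3], hn,
    ↥(Subgroup.centralizer ({a} : Set Cfsg.Spor.Co1)) ⧸ gen3 a, inferInstance, inferInstance, ⟨?_⟩, ?_⟩
  · exact (QuotientGroup.quotientKerEquivOfSurjective Ψ ((QuotientGroup.mk'_surjective _).comp hsurj)).symm.trans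
      (@QuotientGroup.quotientMulEquivOfEq _ _ Ψ.ker _ (MonoidHom.normal_ker _) hn hker)
  · obtain ⟨f, hf, hfQ, hfne⟩ := exists_mover
    exact hA.quot_hyp ⟨f, hf, hfQ, hfne⟩

end CfsgSuzLeech
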